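import Cfsg.Agent.Lib.PLocal.TheoremB.Reduction
import Cfsg.Agent.Lib.Coprime.Commutator
import Cfsg.Agent.Lib.Coprime.PGroup
import Cfsg.Agent.Solvable.Basics

/-!
The action on the Frattini quotient of the `p`-core and its Jordan blocks.
-/

set_option linter.all false
set_option autoImplicit false

namespace Cfsg.Agent.PLocal.PLengthBound

open Subgroup Cfsg TheoremB
open Module (End)

universe u

variable {M : Type u} [Group M] [Finite M] {p : ℕ} [hp : Fact p.Prime]

/-- An additive action on a group of exponent `p` is linear over `ZMod p`. -/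
theorem exists_linear_rep {A : Type u} [AddCommGroup A] (hexp : ∀ x : A, p • x = 0) (g : M → A →+ A)
    (h1 : ∀ x, g 1 x = x) (hmul : ∀ m n x, g (m * n) x = g m (g n x)) :
    ∃ (_ : Module (ZMod p) A) (ρ : M →* End (ZMod p) A), ∀ m x, ρ m x = g m x := by
  letI : Module (ZMod p) A := AddCommGroup.zmodModule hexp
  refine ⟨AddCommGroup.zmodModule hexp, ?_⟩
  exact ⟨
    { toFun := fun m => (g m).toZModLinearMap p
      map_one' := LinearMap.ext h1
      map_mul' := fun m n => LinearMap.ext (hmul m n) }, fun m x => rfl⟩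

/-- The action of a group of trivial `p'`-core on the Frattini quotient of its `p`-core. -/
theorem exists_layer (hsol : IsPSolvable p M) (hO : pPrimeCore p M = ⊥) :
    ∃ (W : Type u) (_ : AddCommGroup W) (_ : Module (ZMod p) W) (_ : Finite W)
      (ρ : M →* End (ZMod p) W) (f : pCore p M →* Multiplicative W),
      ρ.ker = pCore p M ∧ Function.Surjective f ∧
      ∀ (m : M) (v : pCore p M) (v' : pCore p M), (v' : M) = m * v * m⁻¹ → (f v').toAdd = ρ m (f v).toAdd := by
  set V := pCore p M with hV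
  haveI : V.Normal := inferInstance
  have hVp : IsPGroup p V := Cores.isPGroup_pCore
  haveI := hVp.isNilpotent
  set F := frattini V with hF
  haveI : F.Normal := inferInstance
  letI : CommGroup (V ⧸ F) :=
    { (inferInstance : Group (V ⧸ F)) with
      mul_comm := fun a b => by
        obtain ⟨a, rfl⟩ := QuotientGroup.mk_surjective a
        obtain ⟨b, rfl⟩ := QuotientGroup.mk_surjective b
        show ((a * b : V) : V ⧸ F) = ((b * a : V) : V ⧸ F)
        refine QuotientGroup.eq.mpr ?_
        have := Coprime.commutator_le_frattini V (commutator_mem_commutator (mem_top b⁻¹) (mem_top a⁻¹))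
        convert this using 1
        rw [commutatorElement_def]; group }
  have hexp : ∀ x : Additive (V ⧸ F), p • x = 0 := fun x => by
    obtain ⟨a, ha⟩ := QuotientGroup.mk_surjective x.toMul
    rw [← toMul_eq_one, toMul_nsmul, ← ha, ← QuotientGroup.mk_pow, QuotientGroup.eq_one_iff]
    exact Solvable.Basics.pow_mem_frattini hVp a
  have hmap : ∀ e : V ≃* V, F ≤ F.comap e.toMonoidHom := fun e => by
    rw [← map_le_iff_le_comap]
    exact (characteristic_iff_map_eq.mp inferInstance e).le
  let act : M → (V ⧸ F →* V ⧸ F) := fun m => QuotientGroup.map F F (MulAut.conjNormal m : MulAut V).toMonoidHom (hmap _)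
  have hact : ∀ m (a : V), act m (a : V ⧸ F) = ((MulAut.conjNormal m a : V) : V ⧸ F) := fun m a => rfl
  obtain ⟨instMod, ρ, hρ0⟩ := exists_linear_rep hexp (fun m => MonoidHom.toAdditive (act m))
    (fun w => by
      obtain ⟨a, ha⟩ := QuotientGroup.mk_surjective w.toMul
      show Additive.ofMul (act 1 w.toMul) = w
      rw [← ha, hact, map_one, MulAut.one_apply, ha]
      rfl)
    (fun m n w => by
      obtain ⟨a, ha⟩ := QuotientGroup.mk_surjective w.toMul
      show Additive.ofMul (act (m * n) w.toMul) = Additive.ofMul (act m (act n w.toMul))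
      rw [← ha, hact, hact, hact, map_mul, MulAut.mul_apply])
  have hρ : ∀ m (a : V), ρ m (Additive.ofMul (a : V ⧸ F)) = Additive.ofMul ((MulAut.conjNormal m a : V) : V ⧸ F) :=
    fun m a => by rw [hρ0]; rfl
  let f : V →* Multiplicative (Additive (V ⧸ F)) :=
    MonoidHom.mk' (fun v => Multiplicative.ofAdd (Additive.ofMul (v : V ⧸ F))) fun a b => rfl
  refine ⟨Additive (V ⧸ F), inferInstance, inferInstance, inferInstance, ρ, f, ?_, ?_, ?_⟩
  · have hVker : V ≤ ρ.ker := by
      intro v hv
      refine LinearMap.ext fun w => ?_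
      obtain ⟨a, ha⟩ := QuotientGroup.mk_surjective w.toMul
      have hw : w = Additive.ofMul (a : V ⧸ F) := by rw [ha]; rfl
      rw [hw, hρ]
      show _ = Additive.ofMul (a : V ⧸ F)
      congr 1
      have h1 : MulAut.conjNormal v a = ⟨v, hv⟩ * a * (⟨v, hv⟩ : V)⁻¹ := Subtype.ext (by simp [MulAut.conjNormal_apply])
      rw [h1, QuotientGroup.mk_mul, QuotientGroup.mk_mul, mul_comm ((⟨v, hv⟩ : V) : V ⧸ F), mul_assoc,
        ← QuotientGroup.mk_mul, mul_inv_cancel, QuotientGroup.mk_one, mul_one]
    have hkerp : IsPGroup p ρ.ker := by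
      refine IsPGroup.iff_orderOf.mpr fun g => ?_
      obtain ⟨k, m, hm, hkm⟩ := Nat.exists_eq_pow_mul_and_not_dvd (orderOf_pos g).ne' p hp.out.ne_one
      refine ⟨k, ?_⟩
      set A := zpowers ((g : M) ^ p ^ k) with hA
      have hAcard : (Nat.card A).Coprime (Nat.card (frattini V)) := by
        obtain ⟨j, hj⟩ := (hVp.to_subgroup (frattini V)).exists_card_eq
        have h1 : Nat.card A ∣ m := by
          rw [hA, Nat.card_zpowers]
          refine orderOf_dvd_of_pow_eq_one ?_
          rw [← pow_mul, ← hkm, ← SubmonoidClass.coe_pow, pow_orderOf_eq_one, coe_one]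
        rw [hj]
        exact (Nat.Coprime.pow_right j ((hp.out.coprime_iff_not_dvd.mpr hm).symm)).coprime_dvd_left h1
      have hAV : A ≤ centralizer (V : Set M) := by
        refine Coprime.le_centralizer_of_frattini (fun a _ => by rw [normalizer_eq_top V]; trivial) hAcard
          fun a ha v hv => ?_
        have haker : a ∈ ρ.ker := (zpowers_le.mpr (pow_mem g.2 _)) ha
        have h1 := LinearMap.congr_fun (MonoidHom.mem_ker.mp haker) (Additive.ofMul (((⟨v, hv⟩ : V) : V ⧸ F)))
        rw [hρ] at h1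
        have h2 : ((MulAut.conjNormal a ⟨v, hv⟩ : V) : V ⧸ F) = ((⟨v, hv⟩ : V) : V ⧸ F) := Additive.ofMul.injective h1
        rw [eq_comm, QuotientGroup.eq] at h2
        refine ⟨MulAut.conjNormal a ⟨v, hv⟩ * (⟨v, hv⟩ : V)⁻¹, ?_, by simp [MulAut.conjNormal_apply]⟩
        have h3 := (inferInstance : F.Normal).conj_mem _ h2 ⟨v, hv⟩
        rwa [mul_inv_cancel_left] at h3
      have hAle : A ≤ V := hAV.trans (PSolvable.centralizer_pCore_le hO (PSolvable.subgroup hsol _))
      obtain ⟨j, hj⟩ := (hVp.to_le hAle).exists_card_eq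
      rw [hA, Nat.card_zpowers, ← Subgroup.coe_pow, orderOf_coe, orderOf_pow' g (pow_ne_zero _ hp.out.ne_zero), hkm,
        Nat.gcd_eq_right (dvd_mul_right _ _), Nat.mul_div_cancel_left _ (Nat.pow_pos hp.out.pos)] at hj
      rw [hkm, hj]
      rcases Nat.eq_zero_or_pos j with rfl | hj0
      · rw [pow_zero, mul_one]
      · exact absurd (hj ▸ dvd_pow_self p hj0.ne') hm
    exact le_antisymm (Cores.le_pCore hkerp) hVker
  · intro w
    obtain ⟨a, ha⟩ := QuotientGroup.mk_surjective w.toAdd.toMul
    exact ⟨a, by show Multiplicative.ofAdd (Additive.ofMul (a : V ⧸ F)) = w; rw [ha]; rfl⟩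
  · intro m v v' hv'
    show Additive.ofMul (v' : V ⧸ F) = ρ m (Additive.ofMul (v : V ⧸ F))
    rw [hρ]
    congr 2
    exact Subtype.ext (by rw [hv', MulAut.conjNormal_apply])

variable {W : Type u} [AddCommGroup W] [Module (ZMod p) W]

/-- Powers of a product with an element of the `p`-core. -/
theorem mul_pow_layer {ρ : M →* End (ZMod p) W} {f : pCore p M →* Multiplicative W}
    (hf : ∀ (m : M) (v : pCore p M) (v' : pCore p M), (v' : M) = m * v * m⁻¹ → (f v').toAdd = ρ m (f v).toAdd)
    (a : pCore p M) (h : M) (n : ℕ) :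
    ∃ b : pCore p M, ((a : M) * h) ^ n = b * h ^ n ∧ (f b).toAdd = (∑ i ∈ Finset.range n, ρ h ^ i) (f a).toAdd := by
  induction n with
  | zero => exact ⟨1, by simp, by simp⟩
  | succ n ih =>
    obtain ⟨b, hb, hfb⟩ := ih
    have hmem : h * (b : M) * h⁻¹ ∈ pCore p M := (inferInstance : (pCore p M).Normal).conj_mem _ b.2 h
    refine ⟨a * ⟨h * (b : M) * h⁻¹, hmem⟩, ?_, ?_⟩
    · rw [pow_succ', hb, Subgroup.coe_mul, pow_succ']
      show (a : M) * h * ((b : M) * h ^ n) = (a : M) * (h * b * h⁻¹) * (h * h ^ n)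
      group
    · rw [map_mul, toAdd_mul, hf h b ⟨h * (b : M) * h⁻¹, hmem⟩ rfl, hfb, geom_sum_succ, LinearMap.add_apply,
        Module.End.mul_apply, Module.End.one_apply, add_comm]

/-- With exponent `p ^ e` no element has a full block. -/
theorem no_full_block {ρ : M →* End (ZMod p) W} {f : pCore p M →* Multiplicative W} (hsurj : Function.Surjective f)
    (hf : ∀ (m : M) (v : pCore p M) (v' : pCore p M), (v' : M) = m * v * m⁻¹ → (f v').toAdd = ρ m (f v).toAdd)
    {e : ℕ} (P : Sylow p M) (hexp : ∀ g ∈ (P : Subgroup M), g ^ p ^ e = 1) {h : M} (hh : h ∈ (P : Subgroup M)) :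
    (ρ h - 1) ^ (p ^ e - 1) = 0 := by
  rw [← geom_sum_eq_pow (K := ZMod p)]
  refine LinearMap.ext fun w => ?_
  obtain ⟨a, ha⟩ := hsurj (Multiplicative.ofAdd w)
  obtain ⟨b, hb, hfb⟩ := mul_pow_layer hf a h (p ^ e)
  rw [hexp _ (mul_mem (Cores.pCore_le_sylow P a.2) hh), hexp _ hh, mul_one] at hb
  have hb1 : b = 1 := Subtype.ext hb.symm
  rw [hb1, map_one, toAdd_one] at hfb
  rw [LinearMap.zero_apply, show w = (f a).toAdd by rw [ha]; rfl, ← hfb]

end Cfsg.Agent.PLocal.PLengthBound
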