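import Cfsg.Agent.Lib.PLocal.PLengthBound.TopPowers
import Cfsg.Agent.Lib.PLocal.PLengthBound.Layer
import Cfsg.Agent.Lib.PLocal.Cores
import Cfsg.Agent.GenA.UpperPSeries

/-!
The bounds of Hall and Higman on the `p`-length in terms of the exponent of a Sylow `p`-subgroup.
-/

set_option linter.all false
set_option autoImplicit false

namespace Cfsg.Agent.PLocal.PLengthBound

open Subgroup Cfsg TheoremB
open GenA.UpperPSeries (S le_succ mono step_coprime step_pPower)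
open Module (End finrank)
open scoped TensorProduct

universe u

section

variable {p : ℕ} [hp : Fact p.Prime]

/-- Extension of scalars to an algebraic closure. -/
theorem exists_closed_rep {H : Type u} [Group H] [Nontrivial H] {W : Type u} [AddCommGroup W] [Module (ZMod p) W]
    [Finite W] (σ : H →* End (ZMod p) W) (hσ : Function.Injective σ) :
    ∃ (V : Type u) (_ : AddCommGroup V) (_ : Module (AlgebraicClosure (ZMod p)) V)
      (_ : FiniteDimensional (AlgebraicClosure (ZMod p)) V) (_ : Nontrivial V)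
      (τ : H →* End (AlgebraicClosure (ZMod p)) V), Function.Injective τ ∧
        ∀ h (s : ℕ), (σ h - 1) ^ s = 0 → (τ h - 1) ^ s = 0 := by
  haveI : Module.Finite (ZMod p) W := Module.Finite.of_finite
  let A := AlgebraicClosure (ZMod p)
  let B : End (ZMod p) W →ₐ[ZMod p] End A (A ⊗[ZMod p] W) := Module.End.baseChangeHom (ZMod p) A W
  have hB : Function.Injective B := LinearMap.baseChangeHom_injective (ZMod p) W A
  let τ : H →* End A (A ⊗[ZMod p] W) := (B : End (ZMod p) W →* End A (A ⊗[ZMod p] W)).comp σ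
  have hτ : Function.Injective τ := hB.comp hσ
  haveI : Nontrivial (A ⊗[ZMod p] W) := by
    by_contra h
    rw [not_nontrivial_iff_subsingleton] at h
    obtain ⟨a, b, hab⟩ := exists_pair_ne H
    exact hab (hτ (LinearMap.ext fun w => Subsingleton.elim _ _))
  refine ⟨A ⊗[ZMod p] W, inferInstance, inferInstance, inferInstance, inferInstance, τ, hτ, fun h s hs => ?_⟩
  show (B (σ h) - 1) ^ s = 0
  rw [← map_one B, ← map_sub B, ← map_pow, hs, map_zero]

/-- `p ^ (f - n₀) * (p ^ n₀ - 1)` is at least `2 * p ^ (f - 1)`. -/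
theorem two_mul_le (hp2 : p ≠ 2) {f n₀ : ℕ} (hn₀ : 1 ≤ n₀) (hle : n₀ ≤ f) :
    2 * p ^ (f - 1) ≤ p ^ (f - n₀) * (p ^ n₀ - 1) := by
  have h3 : 3 ≤ p := by have := hp.out.two_le; omega
  rw [Nat.mul_sub, mul_one, ← pow_add, show f - n₀ + n₀ = f by omega]
  have h1 : p ^ (f - n₀) ≤ p ^ (f - 1) := Nat.pow_le_pow_right hp.out.pos (by omega)
  have h2 : 3 * p ^ (f - 1) ≤ p ^ f := by
    calc 3 * p ^ (f - 1) ≤ p * p ^ (f - 1) := Nat.mul_le_mul_right _ h3
      _ = p ^ f := by rw [← pow_succ']; congr 1; omega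
  omega

/-- If `p ^ n₀ - 1` is a power of the prime `q`, then `q = 2` and `p` is a Fermat prime. -/
theorem eq_two_of_pow (hp2 : p ≠ 2) {q : ℕ} (hq : q.Prime) {n₀ m : ℕ} (hn₀ : 1 ≤ n₀) (hqm : p ^ n₀ - 1 = q ^ m) :
    q = 2 ∧ ∃ k : ℕ, p = 2 ^ k + 1 := by
  have hq2 : q = 2 := by
    by_contra hq2
    have hodd : Odd (q ^ m) := (hq.odd_of_ne_two hq2).pow
    rw [← hqm, Nat.odd_sub (Nat.one_le_pow _ _ hp.out.pos)] at hodd
    have hpodd : Odd (p ^ n₀) := (hp.out.odd_of_ne_two hp2).pow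
    exact absurd (hodd.mp hpodd) (by decide)
  have hdvd : p - 1 ∣ 2 ^ m := by
    rw [← hq2, ← hqm]
    simpa using Nat.sub_dvd_pow_sub_pow p 1 n₀
  obtain ⟨k, -, hk⟩ := (Nat.dvd_prime_pow Nat.prime_two).mp hdvd
  exact ⟨hq2, k, by have := hp.out.two_le; omega⟩

variable {M : Type u} [Group M] [Finite M]

/-- A power of a `p`-element outside the `p`-core gives a long block on the layer. -/
theorem exists_bound (hsol : IsPSolvable p M) {W : Type u} [AddCommGroup W] [Module (ZMod p) W] [Finite W]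
    (ρ : M →* End (ZMod p) W) (hker : ρ.ker = pCore p M) {f : ℕ} (hf : 1 ≤ f) {x : M} (hx : x ^ p ^ f ∈ pCore p M)
    (hnot : x ^ p ^ (f - 1) ∉ pCore p M) (s : ℕ) (hs : (ρ x - 1) ^ s = 0) :
    ∃ q : ℕ, q.Prime ∧ Bound p q f s (∀ T : Sylow q (M ⧸ pCore p M), ¬ IsMulCommutative T) := by
  haveI : Module.Finite (ZMod p) W := Module.Finite.of_finite
  set π := QuotientGroup.mk' (pCore p M) with hπ
  let ρ₁ : M ⧸ pCore p M →* End (ZMod p) W := QuotientGroup.lift (pCore p M) ρ hker.ge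
  have hρ₁ : Function.Injective ρ₁ := by
    rw [injective_iff_map_eq_one]
    intro a ha
    obtain ⟨a, rfl⟩ := QuotientGroup.mk_surjective a
    exact (QuotientGroup.eq_one_iff a).mpr (hker ▸ MonoidHom.mem_ker.mpr ha)
  have hne : ¬ π x ^ p ^ (f - 1) = 1 := by
    rw [← map_pow]
    exact fun h => hnot ((QuotientGroup.eq_one_iff _).mp h)
  have hord : orderOf (π x) = p ^ f := by
    have h1 := orderOf_eq_prime_pow (x := π x) (p := p) (n := f - 1) hne
      (by rw [show f - 1 + 1 = f by omega, ← map_pow]; exact (QuotientGroup.eq_one_iff _).mpr hx)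
    rwa [show f - 1 + 1 = f by omega] at h1
  haveI : Nontrivial W := by
    by_contra h
    rw [not_nontrivial_iff_subsingleton] at h
    exact hne (hρ₁ (LinearMap.ext fun w => Subsingleton.elim _ _))
  exact bound_faithful ρ₁ hρ₁ (PSolvable.quotient hsol _) Cores.pCore_quotient_pCore hf hord s hs

/-- The first step. -/
theorem step_good (hp2 : p ≠ 2) (hsol : IsPSolvable p M) (hO : pPrimeCore p M = ⊥)
    (hgood : (¬ ∃ k : ℕ, p = 2 ^ k + 1) ∨ ∀ T : Sylow 2 M, IsMulCommutative (T : Subgroup M))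
    (P : Sylow p M) {f : ℕ} (hf : 1 ≤ f) (hexp : ∀ g ∈ (P : Subgroup M), g ^ p ^ f = 1) :
    ∀ x ∈ (P : Subgroup M), x ^ p ^ (f - 1) ∈ pCore p M := by
  intro x hx
  by_contra hnot
  obtain ⟨W, _, _, _, ρ, φ, hker, hsurj, hequiv⟩ := exists_layer hsol hO
  obtain ⟨q, hq, hb⟩ := exists_bound hsol ρ hker hf (by rw [hexp x hx]; exact one_mem _) hnot _ (no_full_block hsurj hequiv P hexp hx)
  rcases hb with hb | ⟨n₀, m, hn₀, -, hm, hqm, hna, -⟩
  · have := Nat.pow_pos (n := f) hp.out.pos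
    omega
  obtain ⟨rfl, hk⟩ := eq_two_of_pow hp2 hq hn₀ hqm
  rcases hgood with hgood | hgood
  · exact hgood hk
  haveI : Fact (Nat.Prime 2) := ⟨Nat.prime_two⟩
  obtain ⟨T⟩ : Nonempty (Sylow 2 M) := inferInstance
  refine hna (T.mapSurjective (QuotientGroup.mk'_surjective (pCore p M))) ⟨⟨?_⟩⟩
  rintro ⟨a, ha⟩ ⟨b, hb'⟩
  rw [Sylow.coe_mapSurjective] at ha hb'
  obtain ⟨a, haT, rfl⟩ := ha
  obtain ⟨b, hbT, rfl⟩ := hb'
  refine Subtype.ext ?_
  show QuotientGroup.mk' _ a * QuotientGroup.mk' _ b = QuotientGroup.mk' _ b * QuotientGroup.mk' _ a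
  rw [← map_mul, ← map_mul]
  congr 1
  exact congrArg Subtype.val ((hgood T).is_comm.comm ⟨a, haT⟩ ⟨b, hbT⟩)

/-- The double step. -/
theorem step_any (hp2 : p ≠ 2) (hsol : IsPSolvable p M) (hO : pPrimeCore p M = ⊥)
    (P : Sylow p M) {f : ℕ} (hf : 1 ≤ f) (hexp : ∀ g ∈ (P : Subgroup M), g ^ p ^ f = 1) {x : M}
    (hx : x ∈ (P : Subgroup M)) :
    (QuotientGroup.mk' (pPrimeCore p (M ⧸ pCore p M)) (QuotientGroup.mk' (pCore p M) x)) ^ p ^ (f - 1) ∈
      pCore p ((M ⧸ pCore p M) ⧸ pPrimeCore p (M ⧸ pCore p M)) := by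
  set π₁ := QuotientGroup.mk' (pCore p M) with hπ₁
  set K₁ := pPrimeCore p (M ⧸ pCore p M) with hK₁
  haveI : K₁.Normal := Cores.pPrimeCore_normal p
  set π₂ := QuotientGroup.mk' K₁ with hπ₂
  have hs₁ := QuotientGroup.mk'_surjective (pCore p M)
  have hs₂ := QuotientGroup.mk'_surjective K₁
  by_contra hnot
  have hsol₁ : IsPSolvable p (M ⧸ pCore p M) := PSolvable.quotient hsol _
  have hsol₂ : IsPSolvable p ((M ⧸ pCore p M) ⧸ K₁) := PSolvable.quotient hsol₁ _
  set P₁ := P.mapSurjective hs₁ with hP₁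
  set P₂ := P₁.mapSurjective hs₂ with hP₂
  have hexp₁ : ∀ g ∈ (P₁ : Subgroup (M ⧸ pCore p M)), g ^ p ^ f = 1 := by
    intro g hg
    rw [hP₁, Sylow.coe_mapSurjective] at hg
    obtain ⟨g, hg, rfl⟩ := hg
    rw [← map_pow, hexp g hg, map_one]
  have hexp₂ : ∀ g ∈ (P₂ : Subgroup ((M ⧸ pCore p M) ⧸ K₁)), g ^ p ^ f = 1 := by
    intro g hg
    rw [hP₂, Sylow.coe_mapSurjective] at hg
    obtain ⟨g, hg, rfl⟩ := hg
    rw [← map_pow, hexp₁ g hg, map_one]
  set h := π₁ x with hh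
  have hhP : h ∈ (P₁ : Subgroup (M ⧸ pCore p M)) := by
    rw [hP₁, Sylow.coe_mapSurjective]
    exact mem_map_of_mem _ hx
  have hxN : π₂ h ∈ (P₂ : Subgroup ((M ⧸ pCore p M) ⧸ K₁)) := by
    rw [hP₂, Sylow.coe_mapSurjective]
    exact mem_map_of_mem _ hhP
  -- the top powers of `P₁` commute
  have hcomm : ∀ y₁ ∈ (P₁ : Subgroup (M ⧸ pCore p M)), ∀ y₂ ∈ (P₁ : Subgroup (M ⧸ pCore p M)),
      Commute (y₁ ^ p ^ (f - 1)) (y₂ ^ p ^ (f - 1)) := by
    obtain ⟨W, _, _, _, ρ, φ, hker, hsurj, hequiv⟩ := exists_layer hsol hO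
    let ρ₁ : M ⧸ pCore p M →* End (ZMod p) W := QuotientGroup.lift (pCore p M) ρ hker.ge
    have hρ₁ : Function.Injective ρ₁ := by
      rw [injective_iff_map_eq_one]
      intro a ha
      obtain ⟨a, rfl⟩ := QuotientGroup.mk_surjective a
      exact (QuotientGroup.eq_one_iff a).mpr (hker ▸ MonoidHom.mem_ker.mpr ha)
    rcases subsingleton_or_nontrivial (M ⧸ pCore p M) with hsub | hnt
    · intro y₁ _ y₂ _
      exact Subsingleton.elim _ _
    obtain ⟨V, _, _, _, _, τ, hτ, hblk⟩ := exists_closed_rep ρ₁ hρ₁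
    haveI : CharP (AlgebraicClosure (ZMod p)) p :=
      charP_of_injective_algebraMap (algebraMap (ZMod p) (AlgebraicClosure (ZMod p))).injective p
    intro y₁ hy₁ y₂ hy₂
    refine commute_top_powers hτ hp2 hf hsol₁ Cores.pCore_quotient_pCore P₁ hexp₁ (fun g hg => ?_) hy₁ hy₂
    rw [hP₁, Sylow.coe_mapSurjective] at hg
    obtain ⟨g, hg, rfl⟩ := hg
    exact hblk _ _ (no_full_block hsurj hequiv P hexp hg)
  -- a long block upstairs
  obtain ⟨W, _, _, _, σ, φ, hker, hsurj, hequiv⟩ :=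
    exists_layer hsol₂ (Cores.pPrimeCore_quotient_self (G := M ⧸ pCore p M) p)
  set X := σ (π₂ h) with hX
  set q₀ := p ^ (f - 1) with hq₀
  have hq₀pos : 1 ≤ q₀ := Nat.one_le_pow _ _ hp.out.pos
  have hlong : (X - 1) ^ (2 * q₀ - 1) ≠ 0 := by
    intro hz
    obtain ⟨q, hq, hb⟩ := exists_bound hsol₂ σ hker hf (by rw [hexp₂ _ hxN]; exact one_mem _) hnot _ hz
    rcases hb with hb | ⟨n₀, m, hn₀, hn₀f, -, -, -, hb⟩
    · have h3 : 3 * q₀ ≤ p ^ f := by
        have : 3 ≤ p := by have := hp.out.two_le; omega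
        calc 3 * q₀ ≤ p * q₀ := Nat.mul_le_mul_right _ this
          _ = p ^ f := by rw [hq₀, ← pow_succ']; congr 1; omega
      omega
    · have : 2 * q₀ ≤ p ^ (f - n₀) * (p ^ n₀ - 1) := two_mul_le hp2 hn₀ hn₀f
      omega
  obtain ⟨w, hw⟩ : ∃ w, ((X - 1) ^ (2 * q₀ - 1)) w ≠ 0 := by
    by_contra hz
    exact hlong (LinearMap.ext fun w => not_not.mp fun h1 => hz ⟨w, h1⟩)
  obtain ⟨a, ha⟩ := hsurj (Multiplicative.ofAdd w)
  obtain ⟨α, hα, hαa⟩ : ∃ α ∈ (P₁ : Subgroup (M ⧸ pCore p M)), π₂ α = a := by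
    have h1 := Cores.pCore_le_sylow P₂ a.2
    rw [hP₂, Sylow.coe_mapSurjective] at h1
    exact h1
  have hc : Commute ((π₂ α * π₂ h) ^ q₀) (π₂ h ^ q₀) := by
    have := Commute.map (hcomm (α * h) (mul_mem hα hhP) h hhP) π₂
    rwa [map_pow, map_pow, map_mul] at this
  obtain ⟨b, hb, hfb⟩ := mul_pow_layer hequiv a (π₂ h) q₀
  rw [hαa, hb] at hc
  have hbc : Commute (b : (M ⧸ pCore p M) ⧸ K₁) (π₂ h ^ q₀) := by
    simpa using hc.mul_left ((Commute.refl (π₂ h ^ q₀)).inv_left)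
  have hfix : (σ (π₂ h ^ q₀)) (φ b).toAdd = (φ b).toAdd :=
    (hequiv (π₂ h ^ q₀) b b (by rw [← hbc.eq, mul_inv_cancel_right])).symm
  have hgeom : (∑ i ∈ Finset.range q₀, X ^ i) = (X - 1) ^ (q₀ - 1) := geom_sum_eq_pow (K := ZMod p) (f - 1) X
  have hpow : X ^ q₀ - 1 = (X - 1) ^ q₀ := by
    have := geom_sum_mul X q₀
    rw [hgeom, ← pow_succ, Nat.sub_add_cancel hq₀pos] at this
    exact this.symm
  refine hw ?_
  rw [show 2 * q₀ - 1 = q₀ + (q₀ - 1) by omega, pow_add, Module.End.mul_apply, ← hpow, LinearMap.sub_apply,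
    Module.End.one_apply, show w = (φ a).toAdd by rw [ha]; rfl, ← hgeom, ← hfb, hX, ← map_pow, hfix, sub_self]

end

variable {G : Type*} [Group G] [Finite G] {p : ℕ} [hp : Fact p.Prime]

/-- A quotient by an odd term has trivial `p'`-core. -/
theorem quot_core (i : ℕ) : pPrimeCore p (G ⧸ S p G (2 * i + 1)) = ⊥ :=
  PSolvable.pPrimeCore_quotient_comap (S p G (2 * i)) _ (GenA.UpperPSeries.succ_even (even_two_mul i))

/-- One round of the series. -/
theorem step (hp2 : p ≠ 2) (hG : IsPSolvable p G) (P : Sylow p G) {f : ℕ} (hf : 1 ≤ f) (i : ℕ)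
    (hD : ∀ x ∈ (P : Subgroup G), x ^ p ^ f ∈ S p G (2 * i + 1)) :
    (((¬ ∃ k : ℕ, p = 2 ^ k + 1) ∨ ∀ T : Sylow 2 G, IsMulCommutative (T : Subgroup G)) →
      ∀ x ∈ (P : Subgroup G), x ^ p ^ (f - 1) ∈ S p G (2 * (i + 1) + 1)) ∧
    ∀ x ∈ (P : Subgroup G), x ^ p ^ (f - 1) ∈ S p G (2 * (i + 2) + 1) := by
  set U := S p G (2 * i + 1) with hU
  set π := QuotientGroup.mk' U with hπ
  have hs := QuotientGroup.mk'_surjective U
  have hsol : IsPSolvable p (G ⧸ U) := PSolvable.quotient hG U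
  have hO : pPrimeCore p (G ⧸ U) = ⊥ := quot_core i
  set PM := P.mapSurjective hs with hPM
  have hmem : ∀ x ∈ (P : Subgroup G), π x ∈ (PM : Subgroup (G ⧸ U)) := fun x hx => by
    rw [hPM, Sylow.coe_mapSurjective]
    exact mem_map_of_mem _ hx
  have hexp : ∀ g ∈ (PM : Subgroup (G ⧸ U)), g ^ p ^ f = 1 := by
    intro g hg
    rw [hPM, Sylow.coe_mapSurjective] at hg
    obtain ⟨g, hg, rfl⟩ := hg
    rw [← map_pow]
    exact (QuotientGroup.eq_one_iff _).mpr (hD g hg)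
  set A := (pCore p (G ⧸ U)).comap π with hA
  have hAle : A ≤ S p G (2 * (i + 1) + 1) := by
    rw [show 2 * (i + 1) + 1 = 2 * i + 1 + 1 + 1 by ring]
    exact (GenA.UpperPSeries.succ_odd (p := p) (G := G) (n := 2 * i + 1) (by simp [parity_simps])).ge.trans (le_succ _)
  refine ⟨fun hgood x hx => hAle ?_, fun x hx => ?_⟩
  · rw [hA, mem_comap, map_pow]
    refine step_good hp2 hsol hO (hgood.imp id fun h T => ?_) PM hf hexp _ (hmem x hx)
    haveI : Fact (Nat.Prime 2) := ⟨Nat.prime_two⟩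
    obtain ⟨T₀⟩ : Nonempty (Sylow 2 G) := inferInstance
    have hT₀ : IsMulCommutative ((T₀.mapSurjective hs : Sylow 2 (G ⧸ U)) : Subgroup (G ⧸ U)) := by
      refine ⟨⟨?_⟩⟩
      rintro ⟨a, ha⟩ ⟨b, hb⟩
      rw [Sylow.coe_mapSurjective] at ha hb
      obtain ⟨a, haT, rfl⟩ := ha
      obtain ⟨b, hbT, rfl⟩ := hb
      refine Subtype.ext ?_
      show π a * π b = π b * π a
      rw [← map_mul, ← map_mul]
      congr 1
      exact congrArg Subtype.val ((h T₀).is_comm.comm ⟨a, haT⟩ ⟨b, hbT⟩)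
    refine ⟨⟨fun u w => (T.equiv (T₀.mapSurjective hs)).injective ?_⟩⟩
    rw [map_mul, map_mul]
    exact hT₀.is_comm.comm _ _
  · set φ₁ := (QuotientGroup.mk' (pCore p (G ⧸ U))).comp π with hφ₁
    haveI : (pPrimeCore p ((G ⧸ U) ⧸ pCore p (G ⧸ U))).Normal := Cores.pPrimeCore_normal p
    set φ₂ := (QuotientGroup.mk' (pPrimeCore p ((G ⧸ U) ⧸ pCore p (G ⧸ U)))).comp φ₁ with hφ₂
    set B := (pPrimeCore p ((G ⧸ U) ⧸ pCore p (G ⧸ U))).comap φ₁ with hB
    set T := (pCore p (((G ⧸ U) ⧸ pCore p (G ⧸ U)) ⧸ pPrimeCore p ((G ⧸ U) ⧸ pCore p (G ⧸ U)))).comap φ₂ with hT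
    have hs₁ : Function.Surjective φ₁ := (QuotientGroup.mk'_surjective _).comp hs
    have hs₂ : Function.Surjective φ₂ := (QuotientGroup.mk'_surjective _).comp hs₁
    have hAker : A = (⊥ : Subgroup _).comap φ₁ := by
      rw [hφ₁, ← comap_comap, MonoidHom.comap_bot, QuotientGroup.ker_mk']
    have hBker : B = (⊥ : Subgroup _).comap φ₂ := by
      rw [hφ₂, ← comap_comap, MonoidHom.comap_bot, QuotientGroup.ker_mk']
    haveI : A.Normal := inferInstance
    haveI : B.Normal := inferInstance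
    haveI : T.Normal := inferInstance
    have hAB : A ≤ B := hAker ▸ comap_mono bot_le
    have hBT : B ≤ T := hBker ▸ comap_mono bot_le
    have hco : (A.relIndex B).Coprime p := by
      rw [hAker, relIndex_comap, hB, map_comap_eq_self_of_surjective hs₁, relIndex_bot_left]
      exact Cores.coprime_card_pPrimeCore
    obtain ⟨k, hk⟩ : ∃ k, B.relIndex T = p ^ k := by
      rw [hBker, relIndex_comap, hT, map_comap_eq_self_of_surjective hs₂, relIndex_bot_left]
      exact IsPGroup.iff_card.mp Cores.isPGroup_pCore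
    refine step_pPower hBT hk (step_coprime hAB hco hAle) ?_
    rw [hT, mem_comap, map_pow]
    exact step_any hp2 hsol hO PM hf hexp (hmem x hx)

/-- If a Sylow subgroup lies in an odd term, that term is everything. -/
theorem eq_top_of_sylow_le (P : Sylow p G) (i : ℕ) (h : (P : Subgroup G) ≤ S p G (2 * i + 1)) :
    S p G (2 * i + 1) = ⊤ := by
  set U := S p G (2 * i + 1) with hU
  have htop : (⊤ : Subgroup (G ⧸ U)) = ⊥ := by
    rw [eq_bot_iff, ← quot_core (p := p) (G := G) i]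
    refine Cores.le_pPrimeCore ?_
    rw [Subgroup.card_top]
    refine (hp.out.coprime_iff_not_dvd.mpr ?_).symm
    intro hd
    exact P.not_dvd_index (hd.trans (Subgroup.index_dvd_of_le h))
  rw [← Subgroup.index_eq_one, Subgroup.index, ← Subgroup.card_top, htop, Subgroup.card_bot]

/-- The bound on the `p`-length. -/
theorem pLength_le (hp2 : p ≠ 2) (hG : IsPSolvable p G) (e : ℕ)
    (hexp : ∀ (P : Sylow p G), ∀ x ∈ (P : Subgroup G), x ^ p ^ e = 1) :
    (((¬ ∃ k : ℕ, p = 2 ^ k + 1) ∨ ∀ T : Sylow 2 G, IsMulCommutative (T : Subgroup G)) → PLengthLE p e G) ∧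
      PLengthLE p (2 * e) G := by
  obtain ⟨P⟩ : Nonempty (Sylow p G) := inferInstance
  have key : ∀ f i, (∀ x ∈ (P : Subgroup G), x ^ p ^ f ∈ S p G (2 * i + 1)) →
      (((¬ ∃ k : ℕ, p = 2 ^ k + 1) ∨ ∀ T : Sylow 2 G, IsMulCommutative (T : Subgroup G)) →
        S p G (2 * (i + f) + 1) = ⊤) ∧ S p G (2 * (i + 2 * f) + 1) = ⊤ := by
    intro f
    induction f with
    | zero =>
      intro i hD
      have := eq_top_of_sylow_le P i fun x hx => by simpa using hD x hx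
      exact ⟨fun _ => by simpa using this, by simpa using this⟩
    | succ f ih =>
      intro i hD
      obtain ⟨h1, h2⟩ := step hp2 hG P (Nat.succ_pos f) i hD
      refine ⟨fun hgood => ?_, ?_⟩
      · rw [show i + (f + 1) = i + 1 + f by ring]
        exact (ih (i + 1) (by simpa using h1 hgood)).1 hgood
      · rw [show i + 2 * (f + 1) = i + 2 + 2 * f by ring]
        exact (ih (i + 2) (by simpa using h2)).2
  obtain ⟨h1, h2⟩ := key e 0 fun x hx => by rw [hexp P x hx]; exact one_mem _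
  exact ⟨fun hgood => by simpa [PLengthLE] using h1 hgood, by simpa [PLengthLE] using h2⟩

end Cfsg.Agent.PLocal.PLengthBound
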