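import Cfsg.Agent.Lib.PLocal.PLengthBound.Main

/-!
The `p`-length when the Sylow subgroups for the other primes are abelian.
-/

set_option linter.all false
set_option autoImplicit false

namespace Cfsg.Agent.PLocal.PLengthBound

open Subgroup Cfsg TheoremB
open GenA.UpperPSeries (S le_succ)

variable {G : Type*} [Group G] [Finite G] {p : ℕ} [hp : Fact p.Prime]

/-- A homomorphic image of an abelian Sylow subgroup is abelian. -/
theorem abelian_sylow_image {H : Type*} [Group H] [Finite H] {φ : G →* H} (hφ : Function.Surjective φ) {q : ℕ}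
    [Fact q.Prime] (hab : ∀ T : Sylow q G, IsMulCommutative (T : Subgroup G)) (T : Sylow q H) :
    IsMulCommutative (T : Subgroup H) := by
  obtain ⟨T₀⟩ : Nonempty (Sylow q G) := inferInstance
  have hT₀ : IsMulCommutative ((T₀.mapSurjective hφ : Sylow q H) : Subgroup H) := by
    refine ⟨⟨?_⟩⟩
    rintro ⟨a, ha⟩ ⟨b, hb⟩
    rw [Sylow.coe_mapSurjective] at ha hb
    obtain ⟨a, haT, rfl⟩ := ha
    obtain ⟨b, hbT, rfl⟩ := hb
    refine Subtype.ext ?_
    show φ a * φ b = φ b * φ a
    rw [← map_mul, ← map_mul]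
    congr 1
    exact congrArg Subtype.val ((hab T₀).is_comm.comm ⟨a, haT⟩ ⟨b, hbT⟩)
  refine ⟨⟨fun u w => (T.equiv (T₀.mapSurjective hφ)).injective ?_⟩⟩
  rw [map_mul, map_mul]
  exact hT₀.is_comm.comm _ _

/-- One step. -/
theorem step_abelian (hG : IsPSolvable p G)
    (hab : ∀ (q : ℕ) [Fact q.Prime], q ≠ p → ∀ T : Sylow q G, IsMulCommutative (T : Subgroup G))
    (P : Sylow p G) {f : ℕ} (hf : 1 ≤ f) (i : ℕ) (hD : ∀ x ∈ (P : Subgroup G), x ^ p ^ f ∈ S p G (2 * i + 1)) :
    ∀ x ∈ (P : Subgroup G), x ^ p ^ (f - 1) ∈ S p G (2 * (i + 1) + 1) := by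
  set U := S p G (2 * i + 1) with hU
  set π := QuotientGroup.mk' U with hπ
  have hs := QuotientGroup.mk'_surjective U
  have hsol : IsPSolvable p (G ⧸ U) := PSolvable.quotient hG U
  set PM := P.mapSurjective hs with hPM
  have hexp : ∀ g ∈ (PM : Subgroup (G ⧸ U)), g ^ p ^ f = 1 := by
    intro g hg
    rw [hPM, Sylow.coe_mapSurjective] at hg
    obtain ⟨g, hg, rfl⟩ := hg
    rw [← map_pow]
    exact (QuotientGroup.eq_one_iff _).mpr (hD g hg)
  intro x hx
  have hxP : π x ∈ (PM : Subgroup (G ⧸ U)) := by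
    rw [hPM, Sylow.coe_mapSurjective]
    exact mem_map_of_mem _ hx
  have key : x ^ p ^ (f - 1) ∈ (pCore p (G ⧸ U)).comap π := by
    rw [mem_comap, map_pow]
    by_contra hnot
    obtain ⟨W, _, _, _, ρ, φ, hker, hsurj, hequiv⟩ := exists_layer hsol (quot_core (p := p) (G := G) i)
    obtain ⟨q, hq, hb⟩ := exists_bound hsol ρ hker hf (by rw [hexp _ hxP]; exact one_mem _) hnot _ (no_full_block hsurj hequiv PM hexp hxP)
    rcases hb with hb | ⟨n₀, m, hn₀, -, hm, hqm, hna, -⟩
    · have := Nat.pow_pos (n := f) hp.out.pos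
      omega
    haveI := Fact.mk hq
    have hqp : q ≠ p := by
      rintro rfl
      have h1 : q ∣ q ^ n₀ - 1 := hqm ▸ dvd_pow_self q (by omega)
      have h2 : q ∣ q ^ n₀ := dvd_pow_self q (by omega)
      have h3 := Nat.dvd_sub h2 h1
      rw [Nat.sub_sub_self (Nat.one_le_pow _ _ hq.pos)] at h3
      exact hq.not_dvd_one h3
    obtain ⟨T⟩ : Nonempty (Sylow q ((G ⧸ U) ⧸ pCore p (G ⧸ U))) := inferInstance
    exact hna T (abelian_sylow_image (φ := (QuotientGroup.mk' (pCore p (G ⧸ U))).comp π)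
      ((QuotientGroup.mk'_surjective _).comp hs) (hab q hqp) T)
  rw [show 2 * (i + 1) + 1 = 2 * i + 1 + 1 + 1 by ring]
  exact (GenA.UpperPSeries.succ_odd (p := p) (G := G) (n := 2 * i + 1) (by simp [parity_simps])).ge.trans
    (le_succ _) key

/-- The bound. -/
theorem pLength_le_abelian (hG : IsPSolvable p G)
    (hab : ∀ (q : ℕ) [Fact q.Prime], q ≠ p → ∀ T : Sylow q G, IsMulCommutative (T : Subgroup G)) (e : ℕ)
    (hexp : ∀ (P : Sylow p G), ∀ x ∈ (P : Subgroup G), x ^ p ^ e = 1) : PLengthLE p e G := by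
  obtain ⟨P⟩ : Nonempty (Sylow p G) := inferInstance
  have key : ∀ f i, (∀ x ∈ (P : Subgroup G), x ^ p ^ f ∈ S p G (2 * i + 1)) → S p G (2 * (i + f) + 1) = ⊤ := by
    intro f
    induction f with
    | zero =>
      intro i hD
      exact eq_top_of_sylow_le P i fun x hx => by simpa using hD x hx
    | succ f ih =>
      intro i hD
      rw [show i + (f + 1) = i + 1 + f by ring]
      exact ih (i + 1) (by simpa using step_abelian hG hab P (Nat.succ_pos f) i hD)
  simpa [PLengthLE] using key e 0 fun x hx => by rw [hexp P x hx]; exact one_mem _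

end Cfsg.Agent.PLocal.PLengthBound
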