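import Cfsg.Agent.Lib.PGroups.Alperin

/-!
A `p`-group of automorphisms of an elementary abelian `2`-group: a power of an automorphism that
does not centralize an elementary abelian subgroup normalized by it fixes few points.
-/

set_option linter.all false
set_option autoImplicit false

namespace Cfsg.Agent.PLocal.PLengthBound

open Subgroup
open scoped commutatorElement

variable {U : Type*} [CommGroup U] [Finite U] {p : ℕ} [hp : Fact p.Prime]

/-- The product of the images of `v` under a subgroup. -/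
noncomputable def nrm (L : Subgroup (MulAut U)) (v : U) : U :=
  letI := Fintype.ofFinite L
  ∏ l : L, (l : MulAut U) v

theorem nrm_apply_mul (L : Subgroup (MulAut U)) (v w : U) : nrm L (v * w) = nrm L v * nrm L w := by
  simp only [nrm, map_mul, Finset.prod_mul_distrib]

theorem nrm_one (L : Subgroup (MulAut U)) : nrm L (1 : U) = 1 := by simp [nrm]

theorem apply_nrm (L : Subgroup (MulAut U)) {g : MulAut U} (hg : g ∈ L) (v : U) : g (nrm L v) = nrm L v := by
  letI := Fintype.ofFinite L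
  simp only [nrm, map_prod]
  refine Fintype.prod_equiv (Equiv.mulLeft (⟨g, hg⟩ : L)) _ _ fun l => ?_
  rfl

theorem nrm_apply_comm (L : Subgroup (MulAut U)) {g : MulAut U} (hg : ∀ l ∈ L, Commute g l) (v : U) :
    nrm L (g v) = g (nrm L v) := by
  simp only [nrm, map_prod]
  refine Finset.prod_congr rfl fun l _ => ?_
  show ((l : MulAut U) * g) v = (g * (l : MulAut U)) v
  rw [(hg l l.2).eq]

theorem nrm_apply_mem (L : Subgroup (MulAut U)) {g : MulAut U} (hg : g ∈ L) (v : U) :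
    nrm L (g v) = nrm L v := by
  letI := Fintype.ofFinite L
  simp only [nrm]
  exact Fintype.prod_equiv (Equiv.mulRight (⟨g, hg⟩ : L)) _ _ fun l => rfl

theorem nrm_of_fixed (L : Subgroup (MulAut U)) {v : U} (hv : ∀ l ∈ L, l v = v) :
    nrm L v = v ^ Nat.card L := by
  letI := Fintype.ofFinite L
  simp only [nrm]
  rw [Finset.prod_congr rfl (fun (l : L) _ => hv l l.2), Finset.prod_const, Nat.card_eq_fintype_card, Finset.card_univ]

theorem eq_one_of_pow {v : U} (h2 : ∀ u : U, u ^ 2 = 1) {n : ℕ} (hn : Odd n) (h : v ^ n = 1) : v = 1 := by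
  obtain ⟨k, rfl⟩ := hn
  rwa [pow_succ, pow_mul, h2, one_pow, one_mul] at h

theorem self_pow (h2 : ∀ u : U, u ^ 2 = 1) {n : ℕ} (hn : Odd n) (v : U) : v ^ n = v := by
  obtain ⟨k, rfl⟩ := hn
  rw [pow_succ, pow_mul, h2, one_pow, one_mul]

theorem odd_card (hp2 : p ≠ 2) {L : Subgroup (MulAut U)} (hL : IsPGroup p L) : Odd (Nat.card L) := by
  obtain ⟨k, hk⟩ := hL.exists_card_eq
  rw [hk]
  exact (hp.out.odd_of_ne_two hp2).pow

/-- An element of a coabelian `p`-group fixed by `c` as soon as all vectors with cocyclic stabilizer are. -/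
theorem fixed_of_cocyclic (hp2 : p ≠ 2) (h2 : ∀ u : U, u ^ 2 = 1) (B : Subgroup (MulAut U))
    (hBc : IsMulCommutative B) (hBe : ∀ b ∈ B, b ^ p = 1) (c : MulAut U)
    (hc : ∀ L ≤ B, ∀ b ∈ B, L ⊔ zpowers b = B → ∀ v, (∀ l ∈ L, l v = v) → c v = v) :
    ∀ v, c v = v := by
  suffices key : ∀ N (L : Subgroup (MulAut U)), L ≤ B → Nat.card B ≤ Nat.card L + N →
      ∀ v, (∀ l ∈ L, l v = v) → c v = v by
    intro v
    exact key (Nat.card B) ⊥ bot_le (Nat.le_add_left _ _) v (fun l hl => by rw [mem_bot.mp hl]; rfl)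
  intro N
  induction N using Nat.strong_induction_on with
  | _ N IH =>
  intro L hLB hN v hv
  by_cases hcyc : ∃ b ∈ B, L ⊔ zpowers b = B
  · obtain ⟨b, hb, he⟩ := hcyc
    exact hc L hLB b hb he v hv
  push Not at hcyc
  -- two independent elements
  obtain ⟨x, hxB, hxL⟩ : ∃ x ∈ B, x ∉ L := by
    by_contra hall
    push Not at hall
    refine hcyc 1 B.one_mem ?_
    rw [zpowers_one_eq_bot, sup_bot_eq, le_antisymm hLB hall]
  obtain ⟨y, hyB, hyL⟩ : ∃ y ∈ B, y ∉ L ⊔ zpowers x := by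
    by_contra hall
    push Not at hall
    exact hcyc x hxB (le_antisymm (sup_le hLB (zpowers_le.mpr hxB)) hall)
  have hcomm : ∀ a ∈ B, ∀ b ∈ B, Commute a b := fun a ha b hb => setLike_mul_comm (s := B) ha hb
  have hbig : ∀ e ∈ B, e ∉ L → ∀ w, (∀ l ∈ L, l w = w) →
      c (∏ i ∈ Finset.range p, (e ^ i) w) = ∏ i ∈ Finset.range p, (e ^ i) w := by
    intro e heB heL w hw
    have hlt : Nat.card L < Nat.card ↥(L ⊔ zpowers e) := by
      refine lt_of_le_of_ne (card_le_of_le le_sup_left) fun h => heL ?_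
      rw [eq_of_le_of_card_ge le_sup_left h.ge]
      exact mem_sup_right (mem_zpowers e)
    refine IH (N - 1) (by have := card_le_of_le (sup_le hLB (zpowers_le.mpr heB)); omega) (L ⊔ zpowers e) (sup_le hLB (zpowers_le.mpr heB))
      (by omega) _ ?_
    have h1 : e (∏ i ∈ Finset.range p, (e ^ i) w) = ∏ i ∈ Finset.range p, (e ^ i) w := by
      rw [map_prod]
      have hs : ∀ i, e ((e ^ i) w) = (e ^ (i + 1)) w := fun i => by rw [pow_succ']; rfl
      simp only [hs]
      obtain ⟨k, hk⟩ : ∃ k, p = k + 1 := ⟨p - 1, by have := hp.out.pos; omega⟩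
      rw [hk, Finset.prod_range_succ, Finset.prod_range_succ' _ k, ← hk, hBe e heB, pow_zero]
    let S : Subgroup (MulAut U) := MulAction.stabilizer (MulAut U) (∏ i ∈ Finset.range p, (e ^ i) w)
    have : L ⊔ zpowers e ≤ S := by
      refine sup_le (fun l hl => ?_) (zpowers_le.mpr h1)
      show l _ = _
      rw [map_prod]
      refine Finset.prod_congr rfl fun i _ => ?_
      show (l * e ^ i) w = _
      rw [((hcomm l (hLB hl) e heB).pow_right i).eq]
      show (e ^ i) (l w) = _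
      rw [hw l hl]
    exact fun l hl => this hl
  have hL1 : c (∏ j ∈ Finset.range p, ∏ i ∈ Finset.range p, ((x * y ^ j) ^ i) v) =
      ∏ j ∈ Finset.range p, ∏ i ∈ Finset.range p, ((x * y ^ j) ^ i) v := by
    rw [map_prod]
    refine Finset.prod_congr rfl fun j hj => hbig _ (B.mul_mem hxB (B.pow_mem hyB j)) (fun h => ?_) v hv
    -- the element lies outside `L`
    rcases Nat.eq_zero_or_pos j with rfl | hj0
    · exact hxL (by simpa using h)
    · have hmem : y ^ j ∈ L ⊔ zpowers x := by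
        rw [show y ^ j = x⁻¹ * (x * y ^ j) by group]
        exact mul_mem (inv_mem (mem_sup_right (mem_zpowers x))) (mem_sup_left h)
      obtain ⟨m, hm⟩ := exists_pow_eq_self_of_coprime (x := y) (n := j) (Nat.Coprime.coprime_dvd_right
        (orderOf_dvd_of_pow_eq_one (hBe y hyB))
        ((hp.out.coprime_iff_not_dvd.mpr fun hd => absurd (Nat.le_of_dvd hj0 hd) (by
          have := Finset.mem_range.mp hj; omega)).symm))
      exact hyL (hm ▸ pow_mem hmem m)
  rw [Finset.prod_comm] at hL1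
  obtain ⟨k, hk⟩ : ∃ k, p = k + 1 := ⟨p - 1, by have := hp.out.pos; omega⟩
  conv at hL1 => rw [hk, Finset.prod_range_succ', ← hk, Finset.prod_congr rfl (fun j _ => show ((x * y ^ j) ^ 0) v = v from rfl),
    Finset.prod_const, Finset.card_range, self_pow h2 (hp.out.odd_of_ne_two hp2)]
  have hfix : c (∏ i ∈ Finset.range k, ∏ j ∈ Finset.range p, ((x * y ^ j) ^ (i + 1)) v) =
      ∏ i ∈ Finset.range k, ∏ j ∈ Finset.range p, ((x * y ^ j) ^ (i + 1)) v := by
    rw [map_prod]
    refine Finset.prod_congr rfl fun i hi => ?_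
    have hi' : i + 1 < p := by have := Finset.mem_range.mp hi; omega
    have hy' : y ^ (i + 1) ∉ L := fun h => by
      obtain ⟨m, hm⟩ := exists_pow_eq_self_of_coprime (x := y) (n := i + 1) (Nat.Coprime.coprime_dvd_right
        (orderOf_dvd_of_pow_eq_one (hBe y hyB))
        ((hp.out.coprime_iff_not_dvd.mpr fun hd => absurd (Nat.le_of_dvd (Nat.succ_pos i) hd) (by omega)).symm))
      exact hyL (mem_sup_left (hm ▸ pow_mem h m))
    have h3 := hbig _ (B.pow_mem hyB (i + 1)) hy' ((x ^ (i + 1)) v) (fun l hl => by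
      show (l * x ^ (i + 1)) v = _
      rw [((hcomm l (hLB hl) x hxB).pow_right (i + 1)).eq]
      show (x ^ (i + 1)) (l v) = _
      rw [hv l hl])
    have e : ∀ j, ((x * y ^ j) ^ (i + 1)) v = ((y ^ (i + 1)) ^ j) ((x ^ (i + 1)) v) := fun j => by
      show _ = ((y ^ (i + 1)) ^ j * x ^ (i + 1)) v
      rw [((hcomm x hxB y hyB).pow_right j).mul_pow, ← pow_mul, ← pow_mul, mul_comm j,
        ((hcomm x hxB y hyB).pow_pow _ _).eq]
    simp only [e]
    exact h3
  rw [map_mul, hfix] at hL1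
  exact mul_left_cancel hL1

/-- The main counting lemma. -/
theorem index_fixed_ge (hp2 : p ≠ 2) (h2 : ∀ u : U, u ^ 2 = 1) (B : Subgroup (MulAut U))
    (hBc : IsMulCommutative B) (hBe : ∀ b ∈ B, b ^ p = 1) (h : MulAut U) {j : ℕ} (hj : 1 ≤ j)
    (hP : h ^ p ^ j = 1) (hB : ∀ b ∈ B, h * b * h⁻¹ ∈ B) {b : MulAut U} (hb : b ∈ B)
    (hby : ¬ Commute (h ^ p ^ (j - 1)) b) :
    4 ^ (p ^ j - p ^ (j - 1)) ≤ (MonoidHom.eqLocus (h ^ p ^ (j - 1)).toMonoidHom (MonoidHom.id U)).index := by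
  classical
  set P := p ^ j with hPdef
  set q := p ^ (j - 1) with hqdef
  set y := h ^ q with hy
  have hqP : q * p = P := by rw [hqdef, hPdef, ← pow_succ, Nat.sub_add_cancel hj]
  have hqlt : q < P := by rw [← hqP]; exact lt_mul_of_one_lt_right (Nat.pow_pos hp.out.pos) hp.out.one_lt
  have hpow : ∀ (i : ℕ), ∀ b ∈ B, h ^ i * b * (h ^ i)⁻¹ ∈ B := by
    intro i
    induction i with
    | zero => intro b hb; simpa using hb
    | succ i ih => intro b hb; rw [pow_succ', show h * h ^ i * b * (h * h ^ i)⁻¹ = h * (h ^ i * b * (h ^ i)⁻¹) * h⁻¹ by group]; exact hB _ (ih b hb)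
  have hyB := hpow q
  have hcomm : ∀ a ∈ B, ∀ b ∈ B, Commute a b := fun a ha b hb => setLike_mul_comm (s := B) ha hb
  have hBp : IsPGroup p B := fun g => ⟨1, Subtype.ext (by rw [pow_one, SubmonoidClass.coe_pow, hBe g g.2, coe_one])⟩
  set c := ⁅y, b⁆ with hc
  have hcB : c ∈ B := by rw [hc, commutatorElement_def]; exact mul_mem (hyB b hb) (inv_mem hb)
  have hc1 : c ≠ 1 := fun e => hby (commutatorElement_eq_one_iff_commute.mp e)
  -- a cocyclic subgroup moved by `y`
  obtain ⟨L, hLB, b₀, hb₀, hsup, v, hv, hcv⟩ : ∃ L ≤ B, ∃ b₀ ∈ B, L ⊔ zpowers b₀ = B ∧ ∃ v, (∀ l ∈ L, l v = v) ∧ c v ≠ v := by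
    by_contra hall
    push Not at hall
    exact hc1 (MulEquiv.ext (fixed_of_cocyclic hp2 h2 B hBc hBe c fun L hL b hb he v hv => hall L hL b hb he v hv))
  have hcL : c ∉ L := fun h => hcv (hv c h)
  have hdec : ∀ g ∈ B, ∃ (l : MulAut U) (m : ℤ), l ∈ L ∧ g = l * b₀ ^ m := by
    intro g hg
    have hmem : g ∈ L ⊔ zpowers b₀ := hsup.symm ▸ hg
    rw [← SetLike.mem_coe, coe_mul_of_right_le_normalizer_left L (zpowers b₀) (fun w hw => by
      rw [mem_normalizer_iff]
      intro l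
      have hwB : w ∈ B := zpowers_le.mpr hb₀ hw
      constructor
      · intro hl; rwa [(hcomm w hwB l (hLB hl)).eq, mul_inv_cancel_right]
      · intro hl
        have h1 := hcomm w hwB _ (hLB hl)
        have h2 : w * l * w⁻¹ = l := by
          calc w * l * w⁻¹ = w⁻¹ * (w * (w * l * w⁻¹)) := by group
            _ = w⁻¹ * ((w * l * w⁻¹) * w) := by rw [h1.eq]
            _ = l := by group
        rwa [h2] at hl)] at hmem
    obtain ⟨l, hl, w, hw, rfl⟩ := hmem
    obtain ⟨m, rfl⟩ := mem_zpowers_iff.mp hw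
    exact ⟨l, m, hl, rfl⟩
  have hroot : ∀ m : ℤ, b₀ ^ m ∈ L → (p : ℤ) ∣ m := by
    intro m hm
    by_contra hpm
    obtain ⟨s, t, hst⟩ := ((Nat.prime_iff_prime_int.mp hp.out).coprime_iff_not_dvd.mpr hpm)
    have h1 : b₀ = (b₀ ^ m) ^ t := by
      conv_lhs => rw [← zpow_one b₀, ← hst, zpow_add, mul_comm s, zpow_mul, zpow_natCast, hBe b₀ hb₀, one_zpow,
        one_mul, mul_comm t, zpow_mul]
    refine hcL ?_
    have : B ≤ L := by
      rw [← hsup]
      exact sup_le le_rfl (zpowers_le.mpr (h1 ▸ zpow_mem hm t))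
    exact this hcB
  have hpz : ∀ m : ℤ, (p : ℤ) ∣ m → b₀ ^ m = 1 := fun m ⟨k, hk⟩ => by
    rw [hk, zpow_mul, zpow_natCast, hBe b₀ hb₀, one_zpow]
  have hyL : ¬ ∀ l ∈ L, y * l * y⁻¹ ∈ L := by
    intro hall
    obtain ⟨l₀, m, hl₀, hm⟩ := hdec _ (hyB b₀ hb₀)
    have hconjL : ∀ n : ℕ, ∀ l ∈ L, y ^ n * l * (y ^ n)⁻¹ ∈ L := by
      intro n
      induction n with
      | zero => intro l hl; simpa using hl
      | succ n ih =>
        intro l hl
        rw [pow_succ', show y * y ^ n * l * (y * y ^ n)⁻¹ = y * (y ^ n * l * (y ^ n)⁻¹) * y⁻¹ by group]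
        exact hall _ (ih l hl)
    have hit : ∀ n : ℕ, ∃ l ∈ L, y ^ n * b₀ * (y ^ n)⁻¹ = l * b₀ ^ (m ^ n) := by
      intro n
      induction n with
      | zero => exact ⟨1, L.one_mem, by simp⟩
      | succ n ih =>
        obtain ⟨l, hl, e⟩ := ih
        refine ⟨y * l * y⁻¹ * l₀ ^ (m ^ n), mul_mem (hall l hl) (zpow_mem hl₀ _), ?_⟩
        rw [pow_succ', show y * y ^ n * b₀ * (y * y ^ n)⁻¹ = y * (y ^ n * b₀ * (y ^ n)⁻¹) * y⁻¹ by group, e,
          show y * (l * b₀ ^ (m ^ n)) * y⁻¹ = y * l * y⁻¹ * (y * b₀ ^ (m ^ n) * y⁻¹) by group, ← conj_zpow, hm,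
          (hcomm l₀ (hLB hl₀) _ (zpow_mem hb₀ m)).mul_zpow, ← zpow_mul, ← mul_assoc, pow_succ' m]
    obtain ⟨l, hl, e⟩ := hit p
    have hyp : y ^ p = 1 := by rw [hy, ← pow_mul, hqP, hP]
    rw [hyp, one_mul, inv_one, mul_one] at e
    have h1 : (p : ℤ) ∣ m ^ p - 1 := by
      refine hroot _ ?_
      rw [zpow_sub, zpow_one]
      rw [show b₀ ^ (m ^ p) = l⁻¹ * b₀ by rw [eq_inv_mul_iff_mul_eq]; exact e.symm, mul_inv_cancel_right]
      exact inv_mem hl
    have h2 : (p : ℤ) ∣ m - 1 := by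
      rw [← ZMod.intCast_zmod_eq_zero_iff_dvd] at h1 ⊢
      push_cast [ZMod.pow_card] at h1 ⊢
      exact h1
    have hyb₀ : y * b₀ * y⁻¹ * b₀⁻¹ ∈ L := by
      rw [hm, show m = (m - 1) + 1 by ring, zpow_add, hpz _ h2, one_mul, zpow_one, mul_inv_cancel_right]
      exact hl₀
    refine hcL ?_
    obtain ⟨l', k, hl', rfl⟩ := hdec b hb
    have hk : y * b₀ ^ k * y⁻¹ * (b₀ ^ k)⁻¹ = (y * b₀ * y⁻¹ * b₀⁻¹) ^ k := by
      rw [(hcomm _ (hyB b₀ hb₀) _ (inv_mem hb₀)).mul_zpow, inv_zpow, conj_zpow]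
    rw [hc, commutatorElement_def, show y * (l' * b₀ ^ k) * y⁻¹ * (l' * b₀ ^ k)⁻¹ =
      y * l' * y⁻¹ * (y * b₀ ^ k * y⁻¹ * (b₀ ^ k)⁻¹) * l'⁻¹ by group, hk]
    exact mul_mem (mul_mem (hall l' hl') (zpow_mem hyb₀ k)) (inv_mem hl')
  -- a vector in the moved component
  have hbv : ∃ x, (∀ l ∈ L, l x = x) ∧ nrm B x = 1 ∧ x ≠ 1 := by
    refine ⟨c v * v, fun l hl => ?_, ?_, fun h => hcv ?_⟩
    · rw [map_mul, hv l hl]
      congr 1
      show (l * c) v = c v
      rw [(hcomm l (hLB hl) c hcB).eq]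
      exact congrArg c (hv l hl)
    · rw [nrm_apply_mul, nrm_apply_mem B hcB, ← pow_two, h2]
    · calc c v = c v * (v ^ 2) := by rw [h2, mul_one]
        _ = v := by rw [pow_two, ← mul_assoc, h, one_mul]
  obtain ⟨x, hxL, hxB, hx1⟩ := hbv
  let X : Subgroup U :=
    { carrier := {u | (∀ l ∈ L, l u = u) ∧ nrm B u = 1}
      one_mem' := ⟨fun l _ => map_one l, nrm_one B⟩
      mul_mem' := fun {a b} ha hb => ⟨fun l hl => by rw [map_mul, ha.1 l hl, hb.1 l hl],
        by rw [nrm_apply_mul, ha.2, hb.2, one_mul]⟩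
      inv_mem' := fun {a} ha => by
        rw [show a⁻¹ = a from inv_eq_of_mul_eq_one_right (by rw [← pow_two, h2])]
        exact ha }
  have hmemX : ∀ {u}, u ∈ X ↔ (∀ l ∈ L, l u = u) ∧ nrm B u = 1 := fun {u} => Iff.rfl
  have hXfix : ∀ u, (∀ g ∈ B, g u = u) → nrm B u = 1 → u = 1 := fun u hu hn => by
    rw [nrm_of_fixed B hu] at hn
    exact eq_one_of_pow h2 (odd_card hp2 hBp) hn
  have hxX : x ∈ X := ⟨hxL, hxB⟩
  have hbX : b₀ x ∈ X := ⟨fun l hl => by
      show (l * b₀) x = b₀ x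
      rw [(hcomm l (hLB hl) b₀ hb₀).eq]
      exact congrArg b₀ (hxL l hl),
    by rw [nrm_apply_mem B hb₀, hxB]⟩
  have hbx : b₀ x ≠ x := fun e => hx1 (hXfix x (fun g hg => by
    let S : Subgroup (MulAut U) := MulAction.stabilizer (MulAut U) x
    exact (show B ≤ S by rw [← hsup]; exact sup_le hxL (zpowers_le.mpr e)) hg) hxB)
  have hX4 : 4 ≤ Nat.card X := by
    let f : Fin 4 → X := ![1, ⟨x, hxX⟩, ⟨b₀ x, hbX⟩, ⟨x * b₀ x, X.mul_mem hxX hbX⟩]
    have hf : Function.Injective f := by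
      have e1 : b₀ x ≠ 1 := fun e => hx1 (b₀.map_eq_one_iff.mp e)
      have e2 : x * b₀ x ≠ 1 := fun e => hbx (by
        rw [← mul_right_inj x, e, ← pow_two, h2])
      have e3 : x * b₀ x ≠ x := fun e => e1 (mul_eq_left.mp e)
      have e4 : x * b₀ x ≠ b₀ x := fun e => hx1 (mul_eq_right.mp e)
      intro i k hik
      have := congrArg Subtype.val hik
      fin_cases i <;> fin_cases k <;> simp [f] at this ⊢ <;>
        first
          | exact hx1 this | exact hx1 this.symm | exact e1 this | exact e1 this.symm | exact e2 this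
          | exact e2 this.symm | exact hbx this | exact hbx this.symm | exact e3 this | exact e3 this.symm
          | exact e4 this | exact e4 this.symm
    simpa using Nat.card_le_card_of_injective f hf
  -- the conjugates of `L` are distinct
  have hdist : ∀ d : ℕ, d ≠ 0 → d < P → ¬ ∀ l ∈ L, h ^ d * l * (h ^ d)⁻¹ ∈ L := by
    intro d hd0 hdP hall
    refine hyL fun l hl => ?_
    obtain ⟨v', hv', hve⟩ := (Nat.dvd_prime_pow hp.out).mp (Nat.gcd_dvd_right d (p ^ j))
    have hvj : v' < j := by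
      rcases lt_or_eq_of_le hv' with h' | h'
      · exact h'
      · exfalso
        have := Nat.le_of_dvd (Nat.pos_of_ne_zero hd0) (Nat.gcd_dvd_left d (p ^ j))
        rw [hve, h'] at this
        omega
    have hpd : ∀ n : ℕ, ∀ l ∈ L, h ^ (d * n) * l * (h ^ (d * n))⁻¹ ∈ L := by
      intro n
      induction n with
      | zero => intro l hl; simpa using hl
      | succ n ih =>
        intro l hl
        rw [show d * (n + 1) = d + d * n by ring, pow_add,
          show h ^ d * h ^ (d * n) * l * (h ^ d * h ^ (d * n))⁻¹ = h ^ d * (h ^ (d * n) * l * (h ^ (d * n))⁻¹) * (h ^ d)⁻¹ by group]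
        exact hall _ (ih l hl)
    -- a multiple of `d` congruent to `q`
    obtain ⟨n, hn⟩ : ∃ n : ℕ, h ^ (d * n) = y := by
      have h1 : y ∈ zpowers (h ^ d) := by
        have h2 := Nat.gcd_eq_gcd_ab d (p ^ j)
        rw [hve] at h2
        have h3 : h ^ p ^ v' ∈ zpowers (h ^ d) := ⟨Nat.gcdA d (p ^ j), by
          show (h ^ d) ^ (Nat.gcdA d (p ^ j)) = h ^ p ^ v'
          rw [← zpow_natCast h (p ^ v'), h2, zpow_add, zpow_mul, zpow_mul, zpow_natCast, zpow_natCast, hP, one_zpow,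
            mul_one]⟩
        rw [hy, hqdef, show p ^ (j - 1) = p ^ v' * p ^ (j - 1 - v') by rw [← pow_add]; congr 1; omega, pow_mul]
        exact pow_mem h3 _
      obtain ⟨n, hn⟩ := (mem_powers_iff_mem_zpowers.mpr h1)
      exact ⟨n, by rw [pow_mul]; exact hn⟩
    rw [← hn]
    exact hpd n l hl
  -- the translates of the component are independent
  have hindep : ∀ D : ℕ → U, (∀ i, D i ∈ X) → ∏ i ∈ Finset.range P, (h ^ i) (D i) = 1 →
      ∀ i < P, D i = 1 := by
    intro D hD hprod i hi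
    let L' := L.map (MulAut.conj (h ^ i)).toMonoidHom
    have hL' : ∀ l, l ∈ L' ↔ ∃ l' ∈ L, h ^ i * l' * (h ^ i)⁻¹ = l := fun l => Subgroup.mem_map
    have hL'B : L' ≤ B := fun l hl => by
      obtain ⟨l', hl', rfl⟩ := (hL' l).mp hl; exact hpow i l' (hLB hl')
    have hL'p : IsPGroup p L' := hBp.to_le hL'B
    have hn := congrArg (nrm L') hprod
    rw [nrm_one, show nrm L' (∏ k ∈ Finset.range P, (h ^ k) (D k)) = ∏ k ∈ Finset.range P, nrm L' ((h ^ k) (D k)) from
      map_prod (⟨⟨nrm L', nrm_one L'⟩, nrm_apply_mul L'⟩ : U →* U) _ _, Finset.prod_eq_single i] at hn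
    · rw [nrm_of_fixed L' (fun l hl => ?_), self_pow h2 (odd_card hp2 hL'p)] at hn
      · exact (h ^ i).map_eq_one_iff.mp hn
      · obtain ⟨l', hl', rfl⟩ := (hL' l).mp hl
        show (h ^ i * l' * (h ^ i)⁻¹ * h ^ i) (D i) = (h ^ i) (D i)
        rw [inv_mul_cancel_right]
        exact congrArg (h ^ i) ((hD i).1 l' hl')
    · intro k hk hki
      have hk := Finset.mem_range.mp hk
      -- `L'` moves the `k`-th component
      obtain ⟨l, hl, hlk⟩ : ∃ l ∈ L', (h ^ k)⁻¹ * l * h ^ k ∉ L := by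
        by_contra hall
        push Not at hall
        rcases lt_or_gt_of_ne hki with hlt | hlt
        · refine hdist (i - k) (by omega) (by omega) fun l hl => ?_
          have := hall _ ((hL' _).mpr ⟨l, hl, rfl⟩)
          convert this using 1
          rw [show i = k + (i - k) by omega, pow_add, Nat.add_sub_cancel_left]
          group
        · refine hdist (P - (k - i)) (by omega) (by omega) fun l hl => ?_
          have := hall _ ((hL' _).mpr ⟨l, hl, rfl⟩)
          have hpp : h ^ (P - (k - i)) = (h ^ k)⁻¹ * h ^ i := by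
            rw [eq_inv_mul_iff_mul_eq, ← pow_add, show k + (P - (k - i)) = P + i by omega, pow_add, hP, one_mul]
          rw [hpp]
          convert this using 1
          group
      set g := (h ^ k)⁻¹ * l * h ^ k with hg
      have hgB : g ∈ B := by
        have := hpow (P - k) l (hL'B hl)
        have hpp : h ^ (P - k) = (h ^ k)⁻¹ := eq_inv_of_mul_eq_one_left (by rw [← pow_add, Nat.sub_add_cancel hk.le, hP])
        rwa [hpp, inv_inv] at this
      -- the norm lies in the fixed points of `B` with trivial norm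
      set w := (h ^ k)⁻¹ (nrm L' ((h ^ k) (D k))) with hw
      have hDk := hD k
      have hgw : g w = w := by
        show ((h ^ k)⁻¹ * l * h ^ k * (h ^ k)⁻¹) (nrm L' ((h ^ k) (D k))) = w
        rw [mul_inv_cancel_right]
        exact congrArg (⇑((h ^ k)⁻¹ : MulAut U)) (apply_nrm L' hl _)
      have hLw : ∀ l' ∈ L, l' w = w := by
        intro l' hl'
        show (l' * (h ^ k)⁻¹) (nrm L' ((h ^ k) (D k))) = w
        rw [show l' * (h ^ k)⁻¹ = (h ^ k)⁻¹ * (h ^ k * l' * (h ^ k)⁻¹) by group]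
        refine congrArg (⇑((h ^ k)⁻¹ : MulAut U)) ?_
        show (h ^ k * l' * (h ^ k)⁻¹) (nrm L' ((h ^ k) (D k))) = nrm L' ((h ^ k) (D k))
        rw [← nrm_apply_comm L' (fun m hm => hcomm _ (hpow k l' (hLB hl')) m (hL'B hm))]
        congr 1
        show (h ^ k * l' * (h ^ k)⁻¹ * h ^ k) (D k) = (h ^ k) (D k)
        rw [inv_mul_cancel_right]
        exact congrArg (h ^ k) (hDk.1 l' hl')
      have hBw : ∀ m ∈ B, m w = w := by
        intro m hm
        let S : Subgroup (MulAut U) := MulAction.stabilizer (MulAut U) w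
        have hsubS : L ⊔ zpowers g ≤ S := sup_le hLw (zpowers_le.mpr hgw)
        obtain ⟨l₁, m₁, hl₁, hge⟩ := hdec g hgB
        have hnm : ¬ (p : ℤ) ∣ m₁ := fun hd => hlk (by rw [hge, hpz _ hd, mul_one]; exact hl₁)
        obtain ⟨s, t, hst⟩ := ((Nat.prime_iff_prime_int.mp hp.out).coprime_iff_not_dvd.mpr hnm)
        have hb₀S : b₀ ∈ S := by
          have h1 : b₀ = (b₀ ^ m₁) ^ t := by
            conv_lhs => rw [← zpow_one b₀, ← hst, zpow_add, mul_comm s, zpow_mul, zpow_natCast, hBe b₀ hb₀, one_zpow,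
              one_mul, mul_comm t, zpow_mul]
          rw [h1]
          refine zpow_mem ?_ t
          rw [show b₀ ^ m₁ = l₁⁻¹ * g by rw [hge, inv_mul_cancel_left]]
          exact mul_mem (inv_mem (hsubS (mem_sup_left hl₁))) (hsubS (mem_sup_right (mem_zpowers g)))
        exact (show B ≤ S by rw [← hsup]; exact sup_le hLw (zpowers_le.mpr hb₀S)) hm
      have hn1 : nrm B w = 1 := by
        letI := Fintype.ofFinite L'
        have hexp : w = ∏ m : L', ((h ^ k)⁻¹ * (m : MulAut U) * h ^ k) (D k) := by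
          rw [hw]; simp only [nrm, map_prod]; rfl
        rw [hexp, show nrm B (∏ m : L', ((h ^ k)⁻¹ * (m : MulAut U) * h ^ k) (D k)) =
          ∏ m : L', nrm B (((h ^ k)⁻¹ * (m : MulAut U) * h ^ k) (D k)) from
          map_prod (⟨⟨nrm B, nrm_one B⟩, nrm_apply_mul B⟩ : U →* U) _ _]
        refine Finset.prod_eq_one fun m _ => ?_
        rw [nrm_apply_mem B ?_, hDk.2]
        have := hpow (P - k) m (hL'B m.2)
        have hpp : h ^ (P - k) = (h ^ k)⁻¹ := eq_inv_of_mul_eq_one_left (by rw [← pow_add, Nat.sub_add_cancel hk.le, hP])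
        rwa [hpp, inv_inv] at this
      have := hXfix w hBw hn1
      rw [hw] at this
      exact (MulEquiv.map_eq_one_iff _).mp this
    · intro h'; exact absurd (Finset.mem_range.mpr hi) h'
  -- an injection into the cosets of the fixed points
  set F := MonoidHom.eqLocus y.toMonoidHom (MonoidHom.id U) with hF
  have hFmem : ∀ u, u ∈ F ↔ y u = u := fun u => Iff.rfl
  let Φ : (Fin (P - q) → X) → U ⧸ F := fun d => QuotientGroup.mk (∏ i : Fin (P - q), (h ^ (i : ℕ)) (d i : U))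
  have hΦ : Function.Injective Φ := by
    intro d d' he
    have hmem := QuotientGroup.eq.mp he
    let D : ℕ → U := fun i => if hi : i < P - q then ((d ⟨i, hi⟩)⁻¹ * d' ⟨i, hi⟩ : X) else 1
    have hD : ∀ i, D i ∈ X := fun i => by
      simp only [D]; split_ifs
      · exact SetLike.coe_mem _
      · exact X.one_mem
    set T := ∏ i ∈ Finset.range (P - q), (h ^ i) (D i) with hT
    have hTF : y T = T := by
      refine (hFmem T).mp ?_
      have : T = (∏ i : Fin (P - q), (h ^ (i : ℕ)) (d i : U))⁻¹ * ∏ i : Fin (P - q), (h ^ (i : ℕ)) (d' i : U) := by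
        rw [hT, Finset.prod_range, ← Finset.prod_inv_distrib, ← Finset.prod_mul_distrib]
        refine Finset.prod_congr rfl fun i _ => ?_
        simp [D, i.2]
      rw [this]; exact hmem
    let E : ℕ → U := fun i => D i * if i < q then 1 else D (i - q)
    have hE : ∀ i, E i ∈ X := fun i => by
      refine X.mul_mem (hD i) ?_
      split_ifs
      · exact X.one_mem
      · exact hD _
    have hprod : ∏ i ∈ Finset.range P, (h ^ i) (E i) = 1 := by
      simp only [E, map_mul, Finset.prod_mul_distrib]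
      have h1 : ∏ i ∈ Finset.range P, (h ^ i) (D i) = T := by
        rw [hT]
        refine (Finset.prod_subset (Finset.range_mono (Nat.sub_le P q)) fun i _ hi => ?_).symm
        simp only [D, Finset.mem_range] at hi ⊢
        rw [dif_neg hi, map_one]
      have h3 : ∏ i ∈ Finset.range P, (h ^ i) (if i < q then 1 else D (i - q)) = y T := by
        conv_lhs => rw [show P = q + (P - q) by omega]
        rw [Finset.prod_range_add, Finset.prod_eq_one (fun i hi => by
          rw [if_pos (Finset.mem_range.mp hi), map_one]), one_mul, hT, map_prod]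
        refine Finset.prod_congr rfl fun i _ => ?_
        rw [if_neg (by omega), Nat.add_sub_cancel_left, pow_add]
        rfl
      rw [h1, h3, hTF, ← pow_two, h2]
    have hzero : ∀ i < P, D i = 1 := by
      intro i
      induction i using Nat.strong_induction_on with
      | _ i ih =>
        intro hi
        have := hindep E hE hprod i hi
        simp only [E] at this
        split_ifs at this with hiq
        · simpa using this
        · rwa [ih (i - q) (by have := Nat.pow_pos (n := j - 1) hp.out.pos; omega) (by omega), mul_one] at this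
    funext i
    have h1 := hzero i (by omega)
    simp only [D, dif_pos i.2] at h1
    exact inv_mul_eq_one.mp (Subtype.ext h1)
  calc 4 ^ (P - q) ≤ Nat.card X ^ (P - q) := Nat.pow_le_pow_left hX4 _
    _ = Nat.card (Fin (P - q) → X) := by rw [Nat.card_fun, Nat.card_eq_fintype_card (α := Fin (P - q)), Fintype.card_fin]
    _ ≤ Nat.card (U ⧸ F) := Nat.card_le_card_of_injective Φ hΦ
    _ = F.index := rfl

theorem arith (hp2 : p ≠ 2) {j m : ℕ} (hj : 1 ≤ j) (hm : 1 ≤ m) (hPm : p ^ j = 2 ^ m + 1)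
    (h : 4 ^ (p ^ j - p ^ (j - 1)) ≤ 2 ^ (2 * m)) : False := by
  rw [pow_mul, show (2 : ℕ) ^ 2 = 4 from rfl, Nat.pow_le_pow_iff_right (by norm_num)] at h
  have h3 : 3 * p ^ (j - 1) ≤ p ^ j := by
    conv_rhs => rw [show j = j - 1 + 1 by omega, pow_succ']
    exact Nat.mul_le_mul_right _ (by have := hp.out.two_le; omega)
  have h4 : 2 * m ≤ 2 ^ m := by
    clear h hPm
    induction m, hm using Nat.le_induction with
    | base => norm_num
    | succ n hn ih => rw [pow_succ]; omega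
  omega

/-- Powers fixing few points commute. -/
theorem commute_of_bounded (hp2 : p ≠ 2) (h2 : ∀ u : U, u ^ 2 = 1) (A : Subgroup (MulAut U)) (hA : IsPGroup p A)
    {y y' : MulAut U}
    (hy : y ∈ A → y = 1 ∨ ∃ (j : ℕ) (h : MulAut U) (m : ℕ), 1 ≤ j ∧ 1 ≤ m ∧ h ∈ A ∧ h ^ p ^ j = 1 ∧ y = h ^ p ^ (j - 1) ∧
      p ^ j = 2 ^ m + 1 ∧ (MonoidHom.eqLocus y.toMonoidHom (MonoidHom.id U)).index ≤ 2 ^ (2 * m))
    (hy' : y' ∈ A → y' = 1 ∨ ∃ (j : ℕ) (h : MulAut U) (m : ℕ), 1 ≤ j ∧ 1 ≤ m ∧ h ∈ A ∧ h ^ p ^ j = 1 ∧ y' = h ^ p ^ (j - 1) ∧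
      p ^ j = 2 ^ m + 1 ∧ (MonoidHom.eqLocus y'.toMonoidHom (MonoidHom.id U)).index ≤ 2 ^ (2 * m))
    (hyA : y ∈ A) (hy'A : y' ∈ A) : Commute y y' := by
  obtain ⟨B, hBmax⟩ := (Set.toFinite {B : Subgroup A | B.Normal ∧ IsMulCommutative B ∧ ∀ b ∈ B, b ^ p = 1}).exists_maximal
    ⟨⊥, inferInstance, inferInstance, fun b hb => by rw [mem_bot.mp hb, one_pow]⟩
  obtain ⟨hBn, hBc, hBe⟩ := hBmax.1
  set B' := B.map A.subtype with hB'
  have hB'c : IsMulCommutative B' := inferInstance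
  have hB'e : ∀ b ∈ B', b ^ p = 1 := by
    rintro _ ⟨b, hb, rfl⟩
    rw [← map_pow, hBe b hb, map_one]
  have key : ∀ z, z ∈ A → (z = 1 ∨ ∃ (j : ℕ) (h : MulAut U) (m : ℕ), 1 ≤ j ∧ 1 ≤ m ∧ h ∈ A ∧ h ^ p ^ j = 1 ∧ z = h ^ p ^ (j - 1) ∧
      p ^ j = 2 ^ m + 1 ∧ (MonoidHom.eqLocus z.toMonoidHom (MonoidHom.id U)).index ≤ 2 ^ (2 * m)) → z ∈ B' := by
    intro z hzA hz
    rcases hz with rfl | ⟨j, h, m, hj, hm, hhA, hhP, rfl, hPm, hidx⟩
    · exact one_mem _
    have hnorm : ∀ b ∈ B', h * b * h⁻¹ ∈ B' := by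
      rintro _ ⟨b, hb, rfl⟩
      exact ⟨⟨h, hhA⟩ * b * ⟨h, hhA⟩⁻¹, hBn.conj_mem b hb _, rfl⟩
    have hcen : ∀ b ∈ B', Commute (h ^ p ^ (j - 1)) b := fun b hb => by
      by_contra hc
      exact arith hp2 hj hm hPm ((index_fixed_ge hp2 h2 B' hB'c hB'e h hj hhP hnorm hb hc).trans hidx)
    refine ⟨⟨_, hzA⟩, ?_, rfl⟩
    refine PGroups.Alperin.mem_of_pow_eq_one (n := 1) hA (by rwa [pow_one]) B
      (fun b hb => by rw [pow_one]; exact hBe b hb) (fun C hC hC' hCe hBC => le_antisymm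
        (hBmax.2 ⟨hC, hC', fun c hc => by simpa using hCe c hc⟩ hBC) hBC) ?_ ?_
    · exact fun b hb => Subtype.ext (hcen b ⟨b, hb, rfl⟩).symm.eq
    · refine Subtype.ext ?_
      rw [pow_one, SubmonoidClass.coe_pow, ← pow_mul, ← pow_succ, Nat.sub_add_cancel hj, hhP]
      rfl
  exact setLike_mul_comm (s := B') (key y hyA (hy hyA)) (key y' hy'A (hy' hy'A))

end Cfsg.Agent.PLocal.PLengthBound
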