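import Cfsg.Agent.Lib.PLocal.TheoremB.Main
import Cfsg.Agent.Lib.PLocal.PLengthBound.Orbit

/-!
A `p`-group without full Jordan blocks acting on a `2`-group of class two: the top powers commute.
-/

set_option linter.all false
set_option autoImplicit false

namespace Cfsg.Agent.PLocal.PLengthBound

open TheoremB
open Module (End finrank)
open scoped commutatorElement

theorem pow_pred_mem_zpowers {M : Type*} [Group M] {p : ℕ} [Fact p.Prime] {x : M} {j i : ℕ}
    (hx : x ^ p ^ j = 1) (hi0 : i ≠ 0) (hi : i < p ^ j) :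
    x ^ p ^ (j - 1) ∈ Subgroup.zpowers (x ^ i) := by
  obtain ⟨v, hv, hve⟩ := (Nat.dvd_prime_pow (Fact.out : p.Prime)).mp (Nat.gcd_dvd_right i (p ^ j))
  have hvj : v < j := by
    rcases lt_or_eq_of_le hv with h' | h'
    · exact h'
    · exfalso
      have := Nat.le_of_dvd (Nat.pos_of_ne_zero hi0) (Nat.gcd_dvd_left i (p ^ j))
      rw [hve, h'] at this
      omega
  have h2 := Nat.gcd_eq_gcd_ab i (p ^ j)
  rw [hve] at h2
  have h3 : x ^ p ^ v ∈ Subgroup.zpowers (x ^ i) := ⟨Nat.gcdA i (p ^ j), by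
    show (x ^ i) ^ (Nat.gcdA i (p ^ j)) = x ^ p ^ v
    rw [← zpow_natCast x (p ^ v), h2, zpow_add, zpow_mul, zpow_mul, zpow_natCast, zpow_natCast, hx, one_zpow,
      mul_one]⟩
  rw [show p ^ (j - 1) = p ^ v * p ^ (j - 1 - v) by rw [← pow_add]; congr 1; omega, pow_mul]
  exact pow_mem h3 _

universe u v w

variable {G : Type u} [Group G] {K : Type w} [Field K] {V : Type v} [AddCommGroup V] [Module K V]

/-- The hypotheses: a class two `2`-group normalized by a `p`-group without full blocks. -/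
structure Setting (ρ : G →* End K V) (p e : ℕ) (T I : Subgroup G) : Prop where
  odd : p ≠ 2
  one_le : 1 ≤ e
  inj : Function.Injective ρ
  two : IsPGroup 2 T
  norm : ∀ h ∈ I, Normalizes h T
  central : ∀ a ∈ T, ∀ b ∈ T, ∀ c ∈ T, Commute ⁅a, b⁆ c
  sq : ∀ a ∈ T, ∀ b ∈ T, Commute (a ^ 2) b
  pow : ∀ h ∈ I, h ^ p ^ e = 1
  blk : ∀ h ∈ I, (ρ h - 1) ^ (p ^ e - 1) = 0

variable {ρ : G →* End K V} {p e : ℕ} {T I : Subgroup G}

theorem br_mem {a b : G} (ha : a ∈ T) (hb : b ∈ T) : ⁅a, b⁆ ∈ T :=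
  mul_mem (mul_mem (mul_mem ha hb) (inv_mem ha)) (inv_mem hb)

theorem Setting.br_mul (hS : Setting ρ p e T I) {a b t : G} (ha : a ∈ T) (hb : b ∈ T) (ht : t ∈ T) :
    ⁅a * b, t⁆ = ⁅a, t⁆ * ⁅b, t⁆ := by
  have h1 := hS.central b hb t ht a ha
  have h2 := hS.central b hb t ht _ (br_mem ha ht)
  calc ⁅a * b, t⁆ = a * ⁅b, t⁆ * a⁻¹ * ⁅a, t⁆ := by simp only [commutatorElement_def]; group
    _ = ⁅b, t⁆ * ⁅a, t⁆ := by rw [← h1.eq, mul_inv_cancel_right]
    _ = _ := h2.eq

theorem Setting.br_sq (hS : Setting ρ p e T I) {a t : G} (ha : a ∈ T) (ht : t ∈ T) : ⁅a, t⁆ * ⁅a, t⁆ = 1 := by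
  rw [← hS.br_mul ha ha ht, commutatorElement_eq_one_iff_commute, ← pow_two]
  exact hS.sq a ha t ht

/-- The scalar of an element on a subspace, if it has one. -/
noncomputable def scal (ρ : G →* End K V) (U : Submodule K V) (g : G) : K :=
  open Classical in if h : ∃ c : K, ∀ w ∈ U, ρ g w = c • w then h.choose else 0

/-- `g` is a scalar on `U`. -/
def IsScal (ρ : G →* End K V) (U : Submodule K V) (g : G) : Prop := ∃ c : K, ∀ w ∈ U, ρ g w = c • w

theorem IsScal.spec {U : Submodule K V} {g : G} (h : IsScal ρ U g) : ∀ w ∈ U, ρ g w = scal ρ U g • w := by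
  rw [scal, dif_pos (show ∃ c : K, ∀ w ∈ U, ρ g w = c • w from h)]
  exact h.choose_spec

theorem scal_eq {U : Submodule K V} [Nontrivial U] {g : G} {c : K} (h : ∀ w ∈ U, ρ g w = c • w) :
    scal ρ U g = c := by
  obtain ⟨w, hw⟩ := exists_ne (0 : U)
  have h1 := IsScal.spec ⟨c, h⟩ w w.2
  rw [h w w.2] at h1
  by_contra hne
  exact hw (Subtype.ext (smul_left_injective _ (by simpa using fun e => hw (Subtype.ext e)) h1 |> fun e => absurd e.symm hne))

theorem isScal_of_comm [FiniteDimensional K V] [IsAlgClosed K] {U : Submodule K V} [Nontrivial U]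
    (hU : ∀ g ∈ T, ∀ w ∈ U, ρ g w ∈ U)
    (hirr : QIrred (subAct ρ T U hU) ⊤) {g : G} (hg : g ∈ T)
    (h : ∀ t ∈ T, ∀ w ∈ U, ρ g (ρ t w) = ρ t (ρ g w)) : IsScal ρ U g := by
  obtain ⟨c, hc⟩ := schur hirr (subAct ρ T U hU ⟨g, hg⟩) fun t _ => LinearMap.ext fun w => Subtype.ext (h t t.2 w w.2)
  exact ⟨c, fun w hw => congrArg Subtype.val (LinearMap.congr_fun hc ⟨w, hw⟩)⟩

/-- The subspace where the scalars of `U` act as on `U`. -/
def eigSpace (ρ : G →* End K V) (T : Subgroup G) (U : Submodule K V) : Submodule K V where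
  carrier := {v | ∀ g ∈ T, IsScal ρ U g → ρ g v = scal ρ U g • v}
  add_mem' := fun {a b} ha hb g hg hgs => by rw [map_add, ha g hg hgs, hb g hg hgs, smul_add]
  zero_mem' := fun g _ _ => by simp
  smul_mem' := fun c a ha g hg hgs => by rw [map_smul, ha g hg hgs, smul_comm]

variable [Finite G] [hp : Fact p.Prime] [CharP K p] [FiniteDimensional K V] [IsAlgClosed K]

set_option maxHeartbeats 800000 in
/-- Analysis of a single constituent. -/
theorem scalar_of_constituent (hS : Setting ρ p e T I) (hIp : IsPGroup p I) {U : Submodule K V} [Nontrivial U]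
    (hU : ∀ g ∈ T, ∀ w ∈ U, ρ g w ∈ U) (hirr : QIrred (subAct ρ T U hU) ⊤) {h₁ h₂ : G} (hh₁ : h₁ ∈ I) (hh₂ : h₂ ∈ I)
    {g : G} (hg : g ∈ T) : IsScal ρ U ⁅⁅h₁ ^ p ^ (e - 1), h₂ ^ p ^ (e - 1)⁆, g⁆ := by
  classical
  have h2p : ¬ p ∣ 2 := fun h => hS.odd ((Nat.prime_dvd_prime_iff_eq hp.out Nat.prime_two).mp h)
  haveI : Fact (Nat.Prime 2) := ⟨Nat.prime_two⟩
  set V₀ := eigSpace ρ T U with hV₀
  have hUV : U ≤ V₀ := fun w hw g hg hgs => hgs.spec w hw
  haveI : Nontrivial V₀ := by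
    obtain ⟨w, hw⟩ := exists_ne (0 : U)
    exact ⟨⟨w, hUV w.2⟩, 0, fun h => hw (Subtype.ext (congrArg Subtype.val h :))⟩
  have hcomm : ∀ a ∈ T, ∀ b ∈ T, IsScal ρ U ⁅a, b⁆ := fun a ha b hb =>
    isScal_of_comm hU hirr (br_mem ha hb) fun t ht w _ => by
      rw [← Module.End.mul_apply, ← map_mul, (hS.central a ha b hb t ht).eq, map_mul, Module.End.mul_apply]
  have hscmul : ∀ {a b : G}, IsScal ρ U a → IsScal ρ U b → IsScal ρ U (a * b) ∧ scal ρ U (a * b) = scal ρ U a * scal ρ U b := by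
    intro a b ha hb
    have : ∀ w ∈ U, ρ (a * b) w = (scal ρ U a * scal ρ U b) • w := fun w hw => by
      rw [map_mul, Module.End.mul_apply, hb.spec w hw, map_smul, ha.spec w hw, smul_smul, mul_comm]
    exact ⟨⟨_, this⟩, scal_eq this⟩
  have hne0 : ∀ {a : G}, IsScal ρ U a → scal ρ U a ≠ 0 := fun {a} ha h0 => by
    obtain ⟨w, hw⟩ := exists_ne (0 : U)
    have h1 := ha.spec w w.2
    rw [h0, zero_smul] at h1
    have h2 := congrArg (ρ a⁻¹) h1
    rw [apply_inv_apply, map_zero] at h2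
    exact hw (Subtype.ext h2)
  have hV₀T : ∀ t ∈ T, ∀ v ∈ V₀, ρ t v ∈ V₀ := by
    intro t ht v hv z hz hzs
    have hz' : t⁻¹ * z * t ∈ T := mul_mem (mul_mem (inv_mem ht) hz) ht
    have h1 : ∀ w ∈ U, ρ (t⁻¹ * z * t) w = scal ρ U z • w := fun w hw => by
      rw [map_mul, map_mul, Module.End.mul_apply, Module.End.mul_apply, hzs.spec _ (hU t ht w hw), map_smul,
        apply_inv_apply]
    have h2 := hv _ hz' ⟨_, h1⟩
    rw [scal_eq h1, map_mul, map_mul, Module.End.mul_apply, Module.End.mul_apply] at h2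
    rw [← apply_apply_inv ρ t (ρ z (ρ t v)), h2, map_smul]
  set L := stab ρ V₀ with hLdef
  have hTL : T ≤ L := fun t ht => mem_stab (hV₀T t ht)
  -- elements of the stabilizer preserve the scalars
  have hstab : ∀ a ∈ L, Normalizes a T → ∀ z ∈ T, IsScal ρ U z →
      a * z * a⁻¹ ∈ T ∧ IsScal ρ U (a * z * a⁻¹) ∧ scal ρ U (a * z * a⁻¹) = scal ρ U z := by
    intro a ha hn z hz hzs
    have h1 : ∀ w ∈ U, ρ (a * z * a⁻¹) w = scal ρ U z • w := fun w hw => by
      rw [map_mul, map_mul, Module.End.mul_apply, Module.End.mul_apply, ha.2 w (hUV hw) z hz hzs, map_smul,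
        apply_apply_inv]
    exact ⟨hn z hz, ⟨_, h1⟩, scal_eq h1⟩
  -- the averaging operator
  haveI := Fintype.ofFinite T
  set Z : Finset T := Finset.univ.filter fun z : T => IsScal ρ U (z : G) with hZ
  set f : End K V := ∑ z ∈ Z, (scal ρ U (z : G))⁻¹ • ρ (z : G) with hf
  have hZ1 : (1 : T) ∈ Z := by
    simp only [hZ, Finset.mem_filter, Finset.mem_univ, true_and, OneMemClass.coe_one]
    exact ⟨1, fun w _ => by simp⟩
  have hinvS : ∀ {a : G}, IsScal ρ U a → IsScal ρ U a⁻¹ := fun {a} ha => ⟨(scal ρ U a)⁻¹, fun w hw => by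
    have h1 := congrArg (ρ a⁻¹) (ha.spec w hw)
    rw [apply_inv_apply, map_smul] at h1
    conv_rhs => rw [h1, smul_smul, inv_mul_cancel₀ (hne0 ha), one_smul]⟩
  have hshift : ∀ d ∈ T, IsScal ρ U d → ∀ v, f (ρ d v) = scal ρ U d • f v := by
    intro d hd hds v
    simp only [hf, LinearMap.sum_apply, Finset.smul_sum, LinearMap.smul_apply]
    refine Finset.sum_bij (fun z _ => z * ⟨d, hd⟩) (fun z hz => ?_) (fun a _ b _ h => mul_right_cancel h)
      (fun b hb => ⟨b * (⟨d, hd⟩ : T)⁻¹, ?_, inv_mul_cancel_right b _⟩) (fun z hz => ?_)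
    · simp only [hZ, Finset.mem_filter, Finset.mem_univ, true_and] at hz ⊢
      exact (hscmul hz hds).1
    · simp only [hZ, Finset.mem_filter, Finset.mem_univ, true_and] at hb ⊢
      exact (hscmul hb (hinvS hds)).1
    · simp only [hZ, Finset.mem_filter, Finset.mem_univ, true_and] at hz
      rw [← Module.End.mul_apply, ← map_mul, smul_smul, Subgroup.coe_mul]
      congr 1
      rw [(hscmul hz hds).2]
      field_simp [hne0 hz, hne0 hds]
  have hkill : ∀ x : G, Normalizes x T → Normalizes x⁻¹ T → x ∉ L → ∀ v ∈ V₀, f (ρ x v) = 0 := by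
    intro x hx hx' hxL v hv
    have hker : ∀ d d' : G, d ∈ T → IsScal ρ U d → IsScal ρ U d' → d' ∈ T → d = x * d' * x⁻¹ →
        scal ρ U d' ≠ scal ρ U d → f (ρ x v) = 0 := by
      intro d d' hd hds hds' hd' he hne
      have h1 := hshift d hd hds (ρ x v)
      rw [← Module.End.mul_apply (ρ d) (ρ x), ← map_mul, he, inv_mul_cancel_right, map_mul, Module.End.mul_apply,
        hv d' hd' hds', map_smul, map_smul, ← sub_eq_zero, ← sub_smul, smul_eq_zero, ← he, sub_eq_zero] at h1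
      exact h1.resolve_left hne
    by_cases hall : ∀ z ∈ T, IsScal ρ U z → IsScal ρ U (x⁻¹ * z * x) ∧ scal ρ U (x⁻¹ * z * x) = scal ρ U z
    · refine absurd (mem_stab fun v' hv' z hz hzs => ?_) hxL
      have hz' : x⁻¹ * z * x ∈ T := by simpa using hx' z hz
      have h2 := hv' _ hz' (hall z hz hzs).1
      rw [(hall z hz hzs).2, map_mul, map_mul, Module.End.mul_apply, Module.End.mul_apply] at h2
      rw [← apply_apply_inv ρ x (ρ z (ρ x v')), h2, map_smul]
    push Not at hall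
    obtain ⟨z, hz, hzs, hz2⟩ := hall
    have hz' : x⁻¹ * z * x ∈ T := by simpa using hx' z hz
    by_cases hzs' : IsScal ρ U (x⁻¹ * z * x)
    · exact hker z _ hz hzs hzs' hz' (by group) (hz2 hzs')
    obtain ⟨t, ht, w, hw, htw⟩ : ∃ t ∈ T, ∃ w ∈ U, ρ (x⁻¹ * z * x) (ρ t w) ≠ ρ t (ρ (x⁻¹ * z * x) w) := by
      by_contra hc
      push Not at hc
      exact hzs' (isScal_of_comm hU hirr hz' hc)
    have hd := hcomm _ hz' t ht
    have hdne : scal ρ U ⁅x⁻¹ * z * x, t⁆ ≠ 1 := by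
      intro h1
      refine htw ?_
      have h2 := hd.spec _ (hU t ht _ (hU _ hz' w hw))
      rw [h1, one_smul] at h2
      rw [← h2]
      simp only [← Module.End.mul_apply, ← map_mul]
      congr 2
      simp only [commutatorElement_def]; group
    have e1 : x * ⁅x⁻¹ * z * x, t⁆ * x⁻¹ = ⁅z, x * t * x⁻¹⁆ := by simp only [commutatorElement_def]; group
    have hdz : ∀ w ∈ U, ρ ⁅z, x * t * x⁻¹⁆ w = (1 : K) • w := fun w hw => by
      have ht' : x * t * x⁻¹ ∈ T := hx t ht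
      rw [commutatorElement_def, map_mul, map_mul, map_mul, Module.End.mul_apply, Module.End.mul_apply,
        Module.End.mul_apply, one_smul]
      have hu := hU _ (inv_mem ht') w hw
      have h3 := (hinvS hzs).spec _ hu
      rw [h3, map_smul, apply_apply_inv, map_smul, hzs.spec _ hw, smul_smul]
      have h4 : scal ρ U z⁻¹ * scal ρ U z = 1 := by
        rw [← (hscmul (hinvS hzs) hzs).2, inv_mul_cancel]
        exact scal_eq fun w _ => by simp
      rw [h4, one_smul]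
    exact hker ⁅z, x * t * x⁻¹⁆ _ (br_mem hz (hx t ht)) ⟨_, hdz⟩ hd (br_mem hz' ht) e1.symm
      (by rw [scal_eq hdz]; exact hdne)
  -- the inertia index of each element
  have hnorm' : ∀ a ∈ I, Normalizes a⁻¹ T := fun a ha => hS.norm _ (inv_mem ha)
  have hinertia : ∀ h ∈ I, ∃ k < e, h ^ p ^ k ∈ L ∧
      ∀ v ∈ V₀, ((ρ (h ^ p ^ k) - 1) ^ (p ^ (e - k) - 1)) v = 0 := by
    intro h hh
    have hex : ∃ a, 0 < a ∧ h ^ a ∈ L :=
      ⟨p ^ e, Nat.pow_pos hp.out.pos, by rw [hS.pow h hh]; exact one_mem L⟩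
    obtain ⟨ha0, haL⟩ := Nat.find_spec hex
    have hdvd : ∀ i, h ^ i ∈ L → Nat.find hex ∣ i := by
      intro i hi
      refine Nat.dvd_of_mod_eq_zero ?_
      by_contra hne
      refine Nat.find_min hex (Nat.mod_lt i ha0) ⟨Nat.pos_of_ne_zero hne, ?_⟩
      rw [← Nat.mod_add_div i (Nat.find hex), pow_add] at hi
      have h1 : (h ^ (Nat.find hex * (i / Nat.find hex))) ∈ L := by rw [pow_mul]; exact pow_mem haL _
      simpa using mul_mem hi (inv_mem h1)
    obtain ⟨k, hk, hke⟩ := (Nat.dvd_prime_pow hp.out).mp (hdvd (p ^ e) (by rw [hS.pow h hh]; exact one_mem L))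
    rw [hke] at haL
    have hsum : ∀ v ∈ V₀, v ≠ 0 → ∑ i ∈ Finset.range (p ^ k), ρ (h ^ i) v ≠ 0 := by
      intro v hv hv0 hsum
      have h1 := congrArg f hsum
      rw [map_sum, map_zero, Finset.sum_eq_single 0] at h1
      · rw [pow_zero, map_one, Module.End.one_apply, hf, LinearMap.sum_apply,
          Finset.sum_congr rfl (g := fun _ => v) (fun z hz => by
            simp only [hZ, Finset.mem_filter, Finset.mem_univ, true_and] at hz
            rw [LinearMap.smul_apply, hv z z.2 hz, smul_smul, inv_mul_cancel₀ (hne0 hz), one_smul]),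
          Finset.sum_const, ← Nat.cast_smul_eq_nsmul K, smul_eq_zero] at h1
        refine h1.elim (fun h0 => ?_) hv0
        rw [CharP.cast_eq_zero_iff K p] at h0
        let S₀ : Subgroup T :=
          { carrier := {z | IsScal ρ U (z : G)}
            one_mem' := ⟨1, fun w _ => by simp⟩
            mul_mem' := fun ha hb => (hscmul ha hb).1
            inv_mem' := fun ha => hinvS ha }
        obtain ⟨m, hm⟩ := (hS.two.to_subgroup S₀).exists_card_eq
        have hcard : Z.card = Nat.card S₀ := by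
          rw [hZ, Nat.card_eq_fintype_card, ← Fintype.card_subtype]
          exact Fintype.card_congr (Equiv.refl _)
        rw [hcard, hm] at h0
        exact h2p (hp.out.dvd_of_dvd_pow h0)
      · intro i hi hi0
        have hik := Finset.mem_range.mp hi
        refine hkill _ (hS.norm _ (pow_mem hh i)) (hnorm' _ (pow_mem hh i)) (fun hiL => ?_) v hv
        have := Nat.le_of_dvd (Nat.pos_of_ne_zero hi0) (hdvd i hiL)
        omega
      · intro h'; exact absurd (Finset.mem_range.mpr (Nat.pow_pos hp.out.pos)) h'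
    have hblk : ∀ a : ℕ, p ^ e - 1 ≤ p ^ k * a + (p ^ k - 1) → ∀ v ∈ V₀, ((ρ (h ^ p ^ k) - 1) ^ a) v = 0 := by
      intro a ha v hv
      by_contra hne
      have hmem : ∀ b : ℕ, ((ρ (h ^ p ^ k) - 1) ^ b) v ∈ V₀ := by
        intro b
        induction b with
        | zero => simpa using hv
        | succ b ih =>
          rw [pow_succ', Module.End.mul_apply, LinearMap.sub_apply, Module.End.one_apply]
          exact V₀.sub_mem (haL.1 _ ih) ih
      refine hsum _ (hmem a) hne ?_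
      haveI : Nontrivial (End K V) := ⟨1, 0, fun he => by
        obtain ⟨w, hw⟩ := exists_ne (0 : U)
        exact hw (Subtype.ext (LinearMap.congr_fun he (w : V)))⟩
      haveI : CharP (End K V) p := charP_of_injective_algebraMap (algebraMap K (End K V)).injective p
      have e1 : ρ (h ^ p ^ k) - 1 = (ρ h - 1) ^ p ^ k := by
        rw [sub_pow_char_pow_of_commute p k (Commute.one_right _), one_pow, map_pow]
      have e2 : (∑ i ∈ Finset.range (p ^ k), ρ (h ^ i)) = (ρ h - 1) ^ (p ^ k - 1) := by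
        rw [← geom_sum_eq_pow (K := K)]
        exact Finset.sum_congr rfl fun i _ => map_pow ρ h i
      rw [← LinearMap.sum_apply, e2, e1, ← pow_mul, ← Module.End.mul_apply, ← pow_add,
        pow_eq_zero_of_le (by omega) (hS.blk h hh), LinearMap.zero_apply]
    refine ⟨k, ?_, haL, hblk _ ?_⟩
    · rcases lt_or_eq_of_le hk with h' | h'
      · exact h'
      · exfalso
        obtain ⟨w, hw⟩ := exists_ne (0 : U)
        refine hw (Subtype.ext ?_)
        simpa using hblk 0 (by subst h'; omega) w (hUV w.2)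
    · have : p ^ k * p ^ (e - k) = p ^ e := by rw [← pow_add]; congr 1; omega
      have := Nat.pow_pos (n := k) hp.out.pos
      have := Nat.pow_pos (n := e - k) hp.out.pos
      rw [Nat.mul_sub, mul_one]
      have := Nat.le_mul_of_pos_right (p ^ k) (Nat.pow_pos (n := e - k) hp.out.pos)
      omega
  -- the quotient and the action of the inertia group on it
  set σ := subAct ρ T U hU with hσ
  set S := scalars σ with hSdef
  have hSmem : ∀ t : T, t ∈ S ↔ IsScal ρ U (t : G) := fun t => by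
    constructor
    · rintro ⟨c, hc⟩; exact ⟨c, fun w hw => congrArg Subtype.val (LinearMap.congr_fun hc ⟨w, hw⟩)⟩
    · rintro ⟨c, hc⟩; exact ⟨c, LinearMap.ext fun w => Subtype.ext (hc w w.2)⟩
  letI : CommGroup (T ⧸ S) :=
    { (inferInstance : Group (T ⧸ S)) with
      mul_comm := fun a b => by
        obtain ⟨a, rfl⟩ := QuotientGroup.mk_surjective a
        obtain ⟨b, rfl⟩ := QuotientGroup.mk_surjective b
        show ((a * b : T) : T ⧸ S) = ((b * a : T) : T ⧸ S)
        refine QuotientGroup.eq.mpr ((hSmem _).mpr ?_)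
        have := hcomm _ (inv_mem b.2) _ (inv_mem a.2)
        convert this using 1
        simp only [Subgroup.coe_mul, Subgroup.coe_inv, commutatorElement_def]; group }
  have hexp2 : ∀ u : T ⧸ S, u ^ 2 = 1 := fun u => by
    obtain ⟨a, rfl⟩ := QuotientGroup.mk_surjective u
    rw [← QuotientGroup.mk_pow, QuotientGroup.eq_one_iff, hSmem, SubmonoidClass.coe_pow]
    exact isScal_of_comm hU hirr (pow_mem a.2 2) fun t ht w _ => by
      rw [← Module.End.mul_apply, ← map_mul, (hS.sq a a.2 t ht).eq, map_mul, Module.End.mul_apply]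
  set St := I ⊓ L with hSt
  let cjT : St → (T →* T) := fun a =>
    MonoidHom.mk' (fun t => ⟨(a : G) * t * (a : G)⁻¹, hS.norm a a.2.1 t t.2⟩) fun s t => Subtype.ext (by
      show (a : G) * ((s : G) * (t : G)) * (a : G)⁻¹ = (a : G) * s * (a : G)⁻¹ * ((a : G) * t * (a : G)⁻¹)
      group)
  have hcjS : ∀ a : St, S ≤ S.comap (cjT a) := fun a t ht =>
    (hSmem _).mpr (hstab a a.2.2 (hS.norm a a.2.1) t t.2 ((hSmem t).mp ht)).2.1
  let act : St → (T ⧸ S →* T ⧸ S) := fun a => QuotientGroup.map S S (cjT a) (hcjS a)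
  have hact1 : ∀ u, act 1 u = u := fun u => by
    obtain ⟨t, rfl⟩ := QuotientGroup.mk_surjective u
    refine congrArg QuotientGroup.mk (Subtype.ext ?_)
    show ((1 : St) : G) * t * ((1 : St) : G)⁻¹ = t
    simp
  have hactm : ∀ a b u, act (a * b) u = act a (act b u) := fun a b u => by
    obtain ⟨t, rfl⟩ := QuotientGroup.mk_surjective u
    refine congrArg QuotientGroup.mk (Subtype.ext ?_)
    show ((a : G) * b) * t * ((a : G) * b)⁻¹ = (a : G) * ((b : G) * t * (b : G)⁻¹) * (a : G)⁻¹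
    group
  let Φ : St →* MulAut (T ⧸ S) := MonoidHom.mk'
    (fun a => MonoidHom.toMulEquiv (act a) (act a⁻¹)
      (MonoidHom.ext fun u => by show act a⁻¹ (act a u) = u; rw [← hactm, inv_mul_cancel, hact1])
      (MonoidHom.ext fun u => by show act a (act a⁻¹ u) = u; rw [← hactm, mul_inv_cancel, hact1]))
    (fun a b => MulEquiv.ext fun u => hactm a b u)
  have hΦ : ∀ (a : St) (t : T), Φ a (t : T ⧸ S) = ((cjT a t : T) : T ⧸ S) := fun a t => rfl
  have hStp : IsPGroup p St := hIp.to_le inf_le_left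
  have hA : IsPGroup p Φ.range := hStp.of_surjective Φ.rangeRestrict Φ.rangeRestrict_surjective
  -- every top power is trivial or fixes few points
  have hkey : ∀ h ∈ I, ∃ y : St, (y : G) = h ^ p ^ (e - 1) ∧ (Φ y = 1 ∨ ∃ (j : ℕ) (x : MulAut (T ⧸ S)) (m : ℕ),
      1 ≤ j ∧ 1 ≤ m ∧ x ∈ Φ.range ∧ x ^ p ^ j = 1 ∧ Φ y = x ^ p ^ (j - 1) ∧ p ^ j = 2 ^ m + 1 ∧
      (MonoidHom.eqLocus (Φ y).toMonoidHom (MonoidHom.id (T ⧸ S))).index ≤ 2 ^ (2 * m)) := by
    intro h hh
    obtain ⟨k, hk, hxL, hxblk⟩ := hinertia h hh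
    set j := e - k with hj
    set x₀ : G := h ^ p ^ k with hx₀
    have hj1 : 1 ≤ j := by omega
    have hx₀P : x₀ ^ p ^ j = 1 := by
      rw [hx₀, ← pow_mul, ← pow_add, show k + j = e by omega, hS.pow h hh]
    set x : St := ⟨x₀, pow_mem hh _, hxL⟩ with hx
    have hy : ((x ^ p ^ (j - 1) : St) : G) = h ^ p ^ (e - 1) := by
      rw [SubmonoidClass.coe_pow]
      show x₀ ^ _ = _
      rw [hx₀, ← pow_mul, ← pow_add, show k + (j - 1) = e - 1 by omega]
    set y : St := x ^ p ^ (j - 1) with hydef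
    refine ⟨y, hy, ?_⟩
    by_cases hΦy : Φ y = 1
    · exact Or.inl hΦy
    refine Or.inr ?_
    have hxP : Φ x ^ p ^ j = 1 := by
      rw [← map_pow, show x ^ p ^ j = 1 from Subtype.ext hx₀P, map_one]
    have hyx : Φ y = Φ x ^ p ^ (j - 1) := map_pow Φ x _
    set ŷ := Φ y with hŷ
    have hyp : ŷ ^ p = 1 := by rw [hyx, ← pow_mul, ← pow_succ, Nat.sub_add_cancel hj1, hxP]
    -- the moved part
    let μ : T ⧸ S →* T ⧸ S := MonoidHom.mk' (fun u => u * ŷ u) fun a b => by
      rw [map_mul]; exact mul_mul_mul_comm a b (ŷ a) (ŷ b)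
    have hsq' : ∀ u : T ⧸ S, u * u = 1 := fun u => by rw [← pow_two, hexp2]
    have hker : μ.ker = MonoidHom.eqLocus ŷ.toMonoidHom (MonoidHom.id (T ⧸ S)) := by
      ext u
      show u * ŷ u = 1 ↔ ŷ u = u
      constructor
      · intro h1; exact mul_left_cancel (h1.trans (hsq' u).symm)
      · intro h1; rw [h1, hsq']
    have hdisj : ∀ u, ŷ (μ u) = μ u → μ u = 1 := by
      intro u hu
      have h2y : (ŷ ^ 2) u = u := by
        have h1 : ŷ u * (ŷ ^ 2) u = u * ŷ u := by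
          rw [pow_two]; exact (map_mul ŷ u (ŷ u)).symm.trans hu
        rw [mul_comm u] at h1
        exact mul_left_cancel h1
      have hfix : ŷ u = u := by
        obtain ⟨a, ha⟩ := hp.out.odd_of_ne_two hS.odd
        let St' : Subgroup (MulAut (T ⧸ S)) := MulAction.stabilizer (MulAut (T ⧸ S)) u
        have h1 : ŷ ^ 2 ∈ St' := h2y
        have h3 : ŷ = (ŷ ^ 2) ^ (a + 1) := by
          rw [← pow_mul, show 2 * (a + 1) = p + 1 by omega, pow_succ, hyp, one_mul]
        exact h3 ▸ (pow_mem h1 (a + 1) : (ŷ ^ 2) ^ (a + 1) ∈ St')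
      show u * ŷ u = 1
      rw [hfix, hsq']
    have hdec : ∀ u, ∃ f' m', ŷ f' = f' ∧ m' ∈ μ.range ∧ u = f' * m' := by
      intro u
      refine ⟨∏ i ∈ Finset.range p, (ŷ ^ i) u, u * ∏ i ∈ Finset.range p, (ŷ ^ i) u, ?_, ?_, ?_⟩
      · rw [map_prod]
        have hs : ∀ i, ŷ ((ŷ ^ i) u) = (ŷ ^ (i + 1)) u := fun i => by rw [pow_succ']; rfl
        simp only [hs]
        obtain ⟨a, ha⟩ : ∃ a, p = a + 1 := ⟨p - 1, by have := hp.out.pos; omega⟩
        rw [ha, Finset.prod_range_succ, Finset.prod_range_succ' _ a, ← ha, hyp, pow_zero]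
      · have : u * ∏ i ∈ Finset.range p, (ŷ ^ i) u = ∏ i ∈ Finset.range p, (u * (ŷ ^ i) u) := by
          rw [Finset.prod_mul_distrib, Finset.prod_const, Finset.card_range,
            self_pow hexp2 (hp.out.odd_of_ne_two hS.odd)]
        rw [this]
        suffices hall : ∀ i : ℕ, u * (ŷ ^ i) u ∈ μ.range from Subgroup.prod_mem _ fun i _ => hall i
        intro i
        induction i with
        | zero => exact ⟨1, by rw [map_one, pow_zero]; exact (hsq' u).symm⟩
        | succ i ih =>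
          obtain ⟨w, hw⟩ := ih
          refine ⟨u * ŷ w, ?_⟩
          rw [map_mul]
          show u * ŷ u * (ŷ w * ŷ (ŷ w)) = _
          rw [← map_mul ŷ w, show w * ŷ w = u * (ŷ ^ i) u from hw, map_mul, pow_succ', mul_mul_mul_comm,
            ← mul_assoc (u * ŷ u), show u * ŷ u * ŷ u = u by rw [mul_assoc, hsq', mul_one]]
          rfl
      · rw [mul_left_comm, hsq', mul_one]
    have hzero : μ.range ≠ ⊥ := fun h0 => hΦy (MulEquiv.ext fun u => by
      have h1 : μ u = 1 := Subgroup.mem_bot.mp (h0 ▸ ⟨u, rfl⟩)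
      have h2 : u ∈ μ.ker := h1
      rw [hker] at h2
      exact h2)
    -- the preimage of the moved part
    set T₁ : Subgroup G := (μ.range.comap (QuotientGroup.mk' S)).map T.subtype with hT₁
    have hT₁T : ∀ {d : G}, d ∈ T₁ → d ∈ T := by rintro _ ⟨t, -, rfl⟩; exact t.2
    have hT₁mem : ∀ (t : T), (t : G) ∈ T₁ ↔ ((t : T ⧸ S)) ∈ μ.range := fun t => by
      constructor
      · rintro ⟨s, hs, he⟩; rwa [← Subtype.ext he]
      · intro ht; exact ⟨t, ht, rfl⟩
    let β : G → G → K := fun a b => scal ρ U ⁅a, b⁆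
    have hβmul : ∀ {a b t : G}, a ∈ T → b ∈ T → t ∈ T → β (a * b) t = β a t * β b t := fun ha hb ht => by
      show scal ρ U ⁅_, _⁆ = _
      rw [hS.br_mul ha hb ht]; exact (hscmul (hcomm _ ha _ ht) (hcomm _ hb _ ht)).2
    have hβswap : ∀ {a b : G}, a ∈ T → b ∈ T → β a b * β b a = 1 := fun {a b} ha hb => by
      rw [← (hscmul (hcomm _ ha _ hb) (hcomm _ hb _ ha)).2, ← commutatorElement_inv b a, inv_mul_cancel]
      exact scal_eq fun w _ => by simp
    have hβscal : ∀ {z t : G}, z ∈ T → IsScal ρ U z → t ∈ T → β z t = 1 := fun {z t} hz hzs ht => by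
      refine scal_eq fun w hw => ?_
      rw [commutatorElement_def, map_mul, map_mul, map_mul, Module.End.mul_apply, Module.End.mul_apply,
        Module.End.mul_apply, one_smul, (hinvS hzs).spec _ (hU _ (inv_mem ht) w hw), map_smul, apply_apply_inv,
        map_smul, hzs.spec _ hw, smul_smul, ← (hscmul (hinvS hzs) hzs).2, inv_mul_cancel]
      rw [show scal ρ U (1 : G) = 1 from scal_eq fun w _ => by simp, one_smul]
    have hnd : ∀ d ∈ T₁, (∀ t ∈ T₁, β d t = 1) → IsScal ρ U d := by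
      intro d hd hall
      obtain ⟨dd, hdd, rfl⟩ := hd
      obtain ⟨uu, huu⟩ := hdd
      obtain ⟨uu, rfl⟩ := QuotientGroup.mk_surjective uu
      -- all brackets with fixed elements are trivial
      have hfix : ∀ f' : T, ŷ (f' : T ⧸ S) = f' → β (dd : G) f' = 1 := by
        intro f' hf'
        have hyf : ((cjT y f' : T) : T ⧸ S) = f' := hf'
        obtain ⟨z, hz, hze⟩ : ∃ z ∈ S, cjT y f' = f' * z :=
          ⟨f'⁻¹ * cjT y f', QuotientGroup.eq.mp hyf.symm, by rw [mul_inv_cancel_left]⟩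
        obtain ⟨z', hz', hze'⟩ : ∃ z' ∈ S, dd = uu * cjT y uu * z' :=
          ⟨(uu * cjT y uu)⁻¹ * dd, QuotientGroup.eq.mp (show ((uu * cjT y uu : T) : T ⧸ S) = (dd : T ⧸ S) from huu),
            by rw [mul_inv_cancel_left]⟩
        have hb1 : ∀ {a : G}, a ∈ T → β a ((cjT y f' : T) : G) = β a f' := fun {a} ha => by
          have h1 := hβswap ha (cjT y f').2
          have h2 := hβswap ha f'.2
          have h3 : β ((cjT y f' : T) : G) a = β (f' : G) a := by
            rw [hze, Subgroup.coe_mul, hβmul f'.2 z.2 ha, hβscal z.2 ((hSmem z).mp hz) ha, mul_one]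
          rw [h3] at h1
          exact mul_right_cancel₀ (right_ne_zero_of_mul_eq_one h1) (h1.trans h2.symm)
        have hb2 : β ((cjT y uu : T) : G) ((cjT y f' : T) : G) = β (uu : G) f' := by
          show scal ρ U ⁅(y : G) * uu * (y : G)⁻¹, (y : G) * f' * (y : G)⁻¹⁆ = scal ρ U ⁅(uu : G), (f' : G)⁆
          rw [show ⁅(y : G) * uu * (y : G)⁻¹, (y : G) * f' * (y : G)⁻¹⁆ = (y : G) * ⁅(uu : G), (f' : G)⁆ * (y : G)⁻¹ by
            simp only [commutatorElement_def]; group]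
          exact (hstab y y.2.2 (hS.norm y y.2.1) _ (br_mem uu.2 f'.2) (hcomm _ uu.2 _ f'.2)).2.2
        rw [hb1 (cjT y uu).2] at hb2
        rw [hze', Subgroup.coe_mul, Subgroup.coe_mul, hβmul (mul_mem uu.2 (cjT y uu).2) z'.2 f'.2,
          hβscal z'.2 ((hSmem z').mp hz') f'.2, mul_one, hβmul uu.2 (cjT y uu).2 f'.2, hb2,
          ← (hscmul (hcomm _ uu.2 _ f'.2) (hcomm _ uu.2 _ f'.2)).2, hS.br_sq uu.2 f'.2]
        exact scal_eq fun w _ => by simp
      refine isScal_of_comm hU hirr dd.2 fun t ht w hw => ?_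
      obtain ⟨f', m', hf', hm', hfm⟩ := hdec ((⟨t, ht⟩ : T) : T ⧸ S)
      obtain ⟨ff, rfl⟩ := QuotientGroup.mk_surjective f'
      obtain ⟨mm, rfl⟩ := QuotientGroup.mk_surjective m'
      obtain ⟨z, hz, hze⟩ : ∃ z ∈ S, (⟨t, ht⟩ : T) = ff * mm * z :=
        ⟨(ff * mm)⁻¹ * ⟨t, ht⟩, QuotientGroup.eq.mp (show ((ff * mm : T) : T ⧸ S) = ((⟨t, ht⟩ : T) : T ⧸ S) from hfm.symm), by rw [mul_inv_cancel_left]⟩
      have ht' : t = (ff : G) * mm * z := congrArg Subtype.val hze
      have h1 : β t (dd : G) = 1 := by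
        have e1 := hfix ff hf'
        have e2 : β (dd : G) mm = 1 := hall _ ((hT₁mem mm).mpr hm')
        have f1 := hβswap dd.2 ff.2
        have f2 := hβswap dd.2 mm.2
        rw [e1, one_mul] at f1
        rw [e2, one_mul] at f2
        rw [ht', hβmul (mul_mem ff.2 mm.2) z.2 dd.2, hβscal z.2 ((hSmem z).mp hz) dd.2, hβmul ff.2 mm.2 dd.2, f1, f2,
          one_mul, one_mul]
      have h2 := (hcomm t ht _ dd.2).spec _ (hU _ dd.2 _ (hU t ht w hw))
      rw [show scal ρ U ⁅t, (dd : G)⁆ = 1 from h1, one_smul] at h2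
      show ρ (dd : G) (ρ t w) = ρ t (ρ (dd : G) w)
      rw [← h2]
      simp only [← Module.End.mul_apply, ← map_mul]
      congr 2
      simp only [commutatorElement_def]; group
    -- conjugation by `x`
    have hcommxy : Commute (Φ x) ŷ := by rw [hyx]; exact (Commute.refl _).pow_right _
    have hT₁x : ∀ d ∈ T₁, x₀ * d * x₀⁻¹ ∈ T₁ := by
      rintro _ ⟨d, hd, rfl⟩
      obtain ⟨w, hw⟩ := hd
      refine (hT₁mem (cjT x d)).mpr ⟨Φ x w, ?_⟩
      show Φ x w * ŷ (Φ x w) = Φ x (d : T ⧸ S)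
      rw [show ŷ (Φ x w) = (ŷ * Φ x) w from rfl, ← hcommxy.eq]
      show Φ x w * Φ x (ŷ w) = _
      rw [← map_mul]
      exact congrArg (Φ x) hw
    have hfixS : ∀ (i : ℕ), i ≠ 0 → i < p ^ j → ∀ d : T, (d : G) ∈ T₁ →
        ((cjT (x ^ i) d : T) : T ⧸ S) = d → IsScal ρ U (d : G) := by
      intro i hi0 hi d hd he
      have h1 : Φ (x ^ i) ∈ MulAction.stabilizer (MulAut (T ⧸ S)) (d : T ⧸ S) := he
      rw [map_pow] at h1
      have h2 : ŷ ∈ MulAction.stabilizer (MulAut (T ⧸ S)) (d : T ⧸ S) := by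
        rw [hyx]
        exact (Subgroup.zpowers_le.mpr h1) (pow_pred_mem_zpowers hxP hi0 hi)
      obtain ⟨w, hw⟩ := (hT₁mem d).mp hd
      have h3 : ŷ (μ w) = μ w := by rw [hw]; exact h2
      have h4 := hdisj w h3
      rw [hw] at h4
      exact (hSmem d).mp ((QuotientGroup.eq_one_iff d).mp h4)
    -- the representation on the eigenspace
    set τ := onSub ρ V₀ with hτ
    set Q₁ := T₁.subgroupOf L with hQ₁
    set xL : L := ⟨x₀, hxL⟩ with hxLdef
    have hQ₁T : ∀ d : L, d ∈ Q₁ → (d : G) ∈ T := fun d hd => hT₁T (Subgroup.mem_subgroupOf.mp hd)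
    have hscalV : ∀ (d : L), (d : G) ∈ T → IsScal ρ U (d : G) → τ d = scal ρ U (d : G) • 1 := fun d hd hds =>
      LinearMap.ext fun w => Subtype.ext (w.2 (d : G) hd hds)
    have hxLP : xL ^ p ^ j = 1 := Subtype.ext hx₀P
    have hxLn : Normalizes xL Q₁ := fun d hd =>
      Subgroup.mem_subgroupOf.mpr (hT₁x _ (Subgroup.mem_subgroupOf.mp hd))
    obtain ⟨k₁, -, W, hW0, hWQ, hWx, hWirr, -, -, hWk⟩ := inertia_constituent (ρ := τ) (Q := Q₁) hxLP hxLn
    have hsub : ∀ (W' : Submodule K V₀) (hW' : ∀ d ∈ Q₁, ∀ w ∈ W', τ d w ∈ W') [Nontrivial W'], W' ≠ ⊥ →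
        (∀ W'' ≤ W', (∀ d ∈ Q₁, ∀ w ∈ W'', τ d w ∈ W'') → W'' = ⊥ ∨ W'' = W') →
        QIrred (subAct τ Q₁ W' hW') ⊤ ∧ ∀ d : Q₁, d ∈ scalars (subAct τ Q₁ W' hW') ↔ IsScal ρ U ((d : L) : G) := by
      intro W' hW' _ hW'0 hW'irr
      constructor
      · intro W'' hW''
        rcases hW'irr (W''.map W'.subtype) (Submodule.map_subtype_le W' W'') (fun d hd w hw => by
          obtain ⟨w', hw', rfl⟩ := hw
          exact ⟨subAct τ Q₁ W' hW' ⟨d, hd⟩ w', hW'' _ trivial w' hw', rfl⟩) with e | e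
        · exact Or.inl (Submodule.map_injective_of_injective W'.injective_subtype (e.trans (Submodule.map_bot _).symm))
        · exact Or.inr (Submodule.map_injective_of_injective W'.injective_subtype (e.trans (Submodule.map_subtype_top W').symm))
      intro d
      have hdT : ((d : L) : G) ∈ T := hQ₁T _ d.2
      constructor
      · intro hds
        refine hnd _ (Subgroup.mem_subgroupOf.mp d.2) fun t ht => ?_
        have htT := hT₁T ht
        set tt : Q₁ := ⟨⟨t, hTL htT⟩, Subgroup.mem_subgroupOf.mpr ht⟩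
        obtain ⟨c, hc⟩ := hds
        have h1 : subAct τ Q₁ W' hW' ⁅d, tt⁆ = 1 := by
          rw [commutatorElement_def, map_mul, map_mul, map_mul, hc, smul_mul_assoc, one_mul, smul_mul_assoc,
            smul_mul_assoc]
          have h2 : c • subAct τ Q₁ W' hW' d⁻¹ = 1 := by
            have := congrArg (fun o => o * subAct τ Q₁ W' hW' d⁻¹) hc
            simp only [smul_mul_assoc, one_mul] at this
            rw [← this, ← map_mul, mul_inv_cancel, map_one]
          rw [← smul_mul_assoc, ← mul_smul_comm, h2, mul_one, ← map_mul, mul_inv_cancel, map_one]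
        obtain ⟨w, hw⟩ := exists_ne (0 : W')
        have h3 : τ ((⁅d, tt⁆ : Q₁) : L) (w : V₀) = (w : V₀) := congrArg Subtype.val (LinearMap.congr_fun h1 w)
        have hcs : IsScal ρ U (((⁅d, tt⁆ : Q₁) : L) : G) := hcomm _ hdT _ htT
        rw [hscalV _ (br_mem hdT htT) hcs] at h3
        by_contra hne
        refine hw (Subtype.ext ?_)
        simp only [LinearMap.smul_apply, Module.End.one_apply] at h3
        have h3' : scal ρ U ⁅((d : L) : G), t⁆ • (w : V₀) = (w : V₀) := h3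
        exact (smul_eq_zero.mp (by rw [sub_smul, one_smul, h3', sub_self] :
          (scal ρ U ⁅((d : L) : G), t⁆ - 1) • (w : V₀) = 0)).resolve_left (sub_ne_zero.mpr hne)
      · intro hds
        exact ⟨scal ρ U ((d : L) : G), LinearMap.ext fun w => Subtype.ext (by
          show τ (d : L) (w : V₀) = _
          rw [hscalV _ hdT hds]; rfl)⟩
    have hcommQ : ∀ (W' : Submodule K V₀) (hW' : ∀ d ∈ Q₁, ∀ w ∈ W', τ d w ∈ W') [Nontrivial W'],
        ∀ a b : Q₁, ⁅a, b⁆ ∈ scalars (subAct τ Q₁ W' hW') := by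
      intro W' hW' _ a b
      exact ⟨scal ρ U ⁅((a : L) : G), ((b : L) : G)⁆, LinearMap.ext fun w => Subtype.ext (by
        show τ ((⁅a, b⁆ : Q₁) : L) (w : V₀) = _
        rw [hscalV _ (br_mem (hQ₁T _ a.2) (hQ₁T _ b.2)) (hcomm _ (hQ₁T _ a.2) _ (hQ₁T _ b.2))]; rfl)⟩
    have hQ₁two : IsPGroup 2 Q₁ := by
      refine (hS.two.to_le (fun d hd => hT₁T hd)).of_equiv (Subgroup.subgroupOfEquivOfLe ?_).symm
      exact fun d hd => hTL (hT₁T hd)
    -- the constituent is invariant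
    have hk₁ : k₁ = 0 := by
      refine hWk fun W' hW' hW'0 hW'irr => ?_
      haveI : Nontrivial W' := Submodule.nontrivial_iff_ne_bot.mpr hW'0
      haveI := Fintype.ofFinite Q₁
      obtain ⟨hirr', hsc'⟩ := hsub W' hW' hW'0 hW'irr
      set η := subAct τ Q₁ W' hW' with hη
      let cx : Q₁ → Q₁ := fun d => ⟨xL * (d : L) * xL⁻¹, hxLn _ d.2⟩
      have hcx : ∀ a b, cx (a * b) = cx a * cx b := fun a b => Subtype.ext (by
        show xL * ((a : L) * b) * xL⁻¹ = xL * a * xL⁻¹ * (xL * b * xL⁻¹)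
        group)
      refine ⟨∑ d : Q₁, η (cx d) * η d⁻¹, ?_, ?_⟩
      · intro h0
        have h1 := congrArg (LinearMap.trace K W') h0
        rw [map_zero, map_sum, ← Finset.sum_subset (Finset.subset_univ (Finset.univ.filter fun d : Q₁ => d ∈ scalars η))]
          at h1
        · rw [Finset.sum_congr rfl (g := fun _ => (finrank K W' : K)) (fun d hd => ?_), Finset.sum_const,
            ← Nat.cast_smul_eq_nsmul K, smul_eq_mul, mul_eq_zero] at h1
          · refine h1.elim (fun h0 => ?_) (dim_ne_zero hirr' fun a _ b _ => hcommQ W' hW' a b)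
            rw [CharP.cast_eq_zero_iff K p] at h0
            obtain ⟨m, hm⟩ := (hQ₁two.to_subgroup (scalars η)).exists_card_eq
            have hcard : (Finset.univ.filter fun d : Q₁ => d ∈ scalars η).card = Nat.card (scalars η) := by
              rw [Nat.card_eq_fintype_card, ← Fintype.card_subtype]
            rw [hcard, hm] at h0
            exact h2p (hp.out.dvd_of_dvd_pow h0)
          · simp only [Finset.mem_filter, Finset.mem_univ, true_and] at hd
            have hds := (hsc' d).mp hd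
            have hdT : ((d : L) : G) ∈ T := hQ₁T _ d.2
            obtain ⟨-, h5, h6⟩ := hstab x₀ hxL (hS.norm x₀ (pow_mem hh _)) _ hdT hds
            have h7 : η (cx d) = η d := LinearMap.ext fun w => Subtype.ext (by
              show τ (xL * (d : L) * xL⁻¹) (w : V₀) = τ (d : L) (w : V₀)
              rw [hscalV _ (hQ₁T _ (hxLn _ d.2)) h5, hscalV _ hdT hds]
              show scal ρ U (x₀ * ((d : L) : G) * x₀⁻¹) • (w : V₀) = _
              rw [h6]; rfl)
            rw [h7, ← map_mul, mul_inv_cancel, map_one, LinearMap.trace_one]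
        · intro d _ hd
          simp only [Finset.mem_filter, Finset.mem_univ, true_and] at hd
          rw [← map_mul]
          refine trace_eq_zero hirr' (fun a _ => hcommQ W' hW' a _) fun hm => hd ((hsc' d).mpr ?_)
          have hdT : ((d : L) : G) ∈ T := hQ₁T _ d.2
          refine hfixS 1 one_ne_zero (Nat.one_lt_pow (by omega) hp.out.one_lt) ⟨_, hdT⟩
            (Subgroup.mem_subgroupOf.mp d.2) ?_
          refine (QuotientGroup.eq.mpr ((hSmem _).mpr ?_)).symm
          have h8 := (hsc' _).mp hm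
          show IsScal ρ U (((d : L) : G)⁻¹ * (((x ^ 1 : St) : G) * ((d : L) : G) * ((x ^ 1 : St) : G)⁻¹))
          rw [pow_one]
          have h9 : ((d : L) : G)⁻¹ * (((x : St) : G) * ((d : L) : G) * ((x : St) : G)⁻¹) =
              ((d : L) : G)⁻¹ * (((cx d * d⁻¹ : Q₁) : L) : G) * (((d : L) : G)⁻¹)⁻¹ := by
            show _ = ((d : L) : G)⁻¹ * (x₀ * ((d : L) : G) * x₀⁻¹ * ((d : L) : G)⁻¹) * (((d : L) : G)⁻¹)⁻¹
            show ((d : L) : G)⁻¹ * (x₀ * ((d : L) : G) * x₀⁻¹) = _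
            group
          rw [h9]
          exact (hstab _ (hTL (inv_mem hdT)) (fun t ht => mul_mem (mul_mem (inv_mem hdT) ht) (inv_mem (inv_mem hdT))) _
            (hQ₁T _ (cx d * d⁻¹).2) h8).2.1
      · intro a a' ha
        obtain rfl : a' = cx a := Subtype.ext ha
        rw [Finset.sum_mul, Finset.mul_sum]
        refine Fintype.sum_equiv (Equiv.mulLeft a⁻¹) _ _ fun d => ?_
        show η (cx d) * η d⁻¹ * η a = η (cx a) * (η (cx (a⁻¹ * d)) * η (a⁻¹ * d)⁻¹)
        rw [mul_assoc, ← map_mul η d⁻¹ a, ← mul_assoc (η (cx a)), ← map_mul η (cx a), ← hcx, mul_inv_cancel_left,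
          mul_inv_rev, inv_inv]
    subst hk₁
    have hxW : xL ∈ stab τ W := mem_stab (by simpa using hWx)
    haveI : Nontrivial W := Submodule.nontrivial_iff_ne_bot.mpr hW0
    obtain ⟨hirrW, hscW⟩ := hsub W hWQ hW0 hWirr
    -- the primitive module
    set η := onSub τ W with hη
    have hQ₁W : Q₁ ≤ stab τ W := fun d hd => mem_stab (hWQ d hd)
    set Q₂ := Q₁.subgroupOf (stab τ W) with hQ₂
    have hirr₂ : QIrred η Q₂ := fun W'' hW'' =>
      hirrW W'' fun d _ w hw => hW'' ⟨d, hQ₁W d.2⟩ (Subgroup.mem_subgroupOf.mpr d.2) w hw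
    have hsc₂ : ∀ d : stab τ W, d ∈ Q₂ → (d ∈ scalars η ↔ IsScal ρ U (((d : L)) : G)) := fun d hd => by
      rw [← hscW ⟨(d : L), Subgroup.mem_subgroupOf.mp hd⟩]
      exact Iff.rfl
    have hQ₂two : IsPGroup 2 Q₂ := hQ₁two.of_equiv (Subgroup.subgroupOfEquivOfLe hQ₁W).symm
    have hcomm₂ : ∀ a ∈ Q₂, ∀ b ∈ Q₂, ⁅a, b⁆ ∈ scalars η := fun a ha b hb => by
      have h1 := hcommQ W hWQ ⟨(a : L), Subgroup.mem_subgroupOf.mp ha⟩ ⟨(b : L), Subgroup.mem_subgroupOf.mp hb⟩
      exact h1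
    set xW : stab τ W := ⟨xL, hxW⟩ with hxWdef
    have hxWn : Normalizes xW Q₂ := fun d hd =>
      Subgroup.mem_subgroupOf.mpr (hxLn _ (Subgroup.mem_subgroupOf.mp hd))
    have hcoe : ∀ (i : ℕ) (d : stab τ W), (((xW ^ i * d * (xW ^ i)⁻¹ : stab τ W) : L) : G) =
        ((x ^ i : St) : G) * ((d : L) : G) * ((x ^ i : St) : G)⁻¹ := fun i d => by
      simp only [Subgroup.coe_mul, Subgroup.coe_inv, SubmonoidClass.coe_pow]
      rfl
    have hreg : ∀ i : ℕ, i ≠ 0 → i < p ^ j → ∀ d ∈ Q₂, d ∉ scalars η → xW ^ i * d * (xW ^ i)⁻¹ ≠ d := by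
      intro i hi0 hi d hd hds he
      refine hds ((hsc₂ d hd).mpr ?_)
      have hdT : ((d : L) : G) ∈ T := hQ₁T _ (Subgroup.mem_subgroupOf.mp hd)
      refine hfixS i hi0 hi ⟨_, hdT⟩ (Subgroup.mem_subgroupOf.mp (Subgroup.mem_subgroupOf.mp hd)) ?_
      refine congrArg QuotientGroup.mk (Subtype.ext ?_)
      show ((x ^ i : St) : G) * ((d : L) : G) * ((x ^ i : St) : G)⁻¹ = ((d : L) : G)
      rw [← hcoe, he]
    have hxWP : xW ^ p ^ j = 1 := Subtype.ext hxLP
    have hblkW : (η xW - 1) ^ (p ^ j - 1) = 0 := by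
      refine LinearMap.ext fun w => Subtype.ext (Subtype.ext ?_)
      rw [onSub_sub_pow, onSub_sub_pow]
      exact hxblk _ (w : V₀).2
    -- a moved element
    obtain ⟨d₀, hd₀, hd₀s⟩ : ∃ d : T, (d : G) ∈ T₁ ∧ ¬ IsScal ρ U (d : G) := by
      by_contra hc
      push Not at hc
      refine hzero (eq_bot_iff.mpr fun u hu => ?_)
      obtain ⟨d, rfl⟩ := QuotientGroup.mk_surjective u
      exact Subgroup.mem_bot.mpr ((QuotientGroup.eq_one_iff d).mpr ((hSmem d).mpr (hc d ((hT₁mem d).mpr hu))))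
    set d₂ : stab τ W := ⟨⟨(d₀ : G), hTL d₀.2⟩, hQ₁W (Subgroup.mem_subgroupOf.mpr hd₀)⟩ with hd₂def
    have hd₂ : d₂ ∈ Q₂ := Subgroup.mem_subgroupOf.mpr (Subgroup.mem_subgroupOf.mpr hd₀)
    have hex : ∃ r, (η xW - 1) ^ r = 0 := ⟨_, hblkW⟩
    set r := Nat.find hex with hr
    have hr0 : (η xW - 1) ^ r = 0 := Nat.find_spec hex
    have hrP : r < p ^ j := by
      have h1 := Nat.find_min' hex hblkW
      have := Nat.one_lt_pow (show j ≠ 0 by omega) hp.out.one_lt
      omega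
    have hr2 : 2 ≤ r := by
      by_contra hlt
      have h1 : η xW - 1 = 0 := by
        have := pow_eq_zero_of_le (show r ≤ 1 by omega) hr0
        rwa [pow_one] at this
      have h1' : η xW = 1 := LinearMap.ext fun w => sub_eq_zero.mp (LinearMap.congr_fun h1 w)
      have h2 : η (xW * d₂ * xW⁻¹) = η d₂ := by
        have h3 : η xW⁻¹ = 1 := by
          have h4 : η xW * η xW⁻¹ = 1 := by rw [← map_mul, mul_inv_cancel, map_one]
          rwa [h1', one_mul] at h4
        rw [map_mul, map_mul, h1', h3, one_mul, mul_one]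
      have h5 : d₂⁻¹ * (xW * d₂ * xW⁻¹) ∈ scalars η :=
        ⟨1, by rw [map_mul, h2, ← map_mul, inv_mul_cancel, map_one, one_smul]⟩
      have h6 := (hsc₂ _ (mul_mem (inv_mem hd₂) (hxWn _ hd₂))).mp h5
      refine hd₀s (hfixS 1 one_ne_zero (Nat.one_lt_pow (by omega) hp.out.one_lt) d₀ hd₀ ?_)
      refine (QuotientGroup.eq.mpr ((hSmem _).mpr ?_)).symm
      show IsScal ρ U ((d₀ : G)⁻¹ * (((x ^ 1 : St) : G) * (d₀ : G) * ((x ^ 1 : St) : G)⁻¹))
      rw [pow_one]
      exact h6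
    obtain ⟨hdim, hrP'⟩ := single_block (p := p) (n := j) hr0 (Nat.find_min hex (by omega)) hr2 hrP
      (commutant_eq (q := 2) hQ₂two hS.odd hirr₂ hcomm₂ hxWP hxWn hreg)
    have hsq := finrank_sq hirr₂ hcomm₂
    -- the index is the order of the moved part
    let π : Q₂ →* T ⧸ S := (QuotientGroup.mk' S).comp
      (MonoidHom.mk' (fun d : Q₂ => (⟨((d : stab τ W) : L), hQ₁T _ (Subgroup.mem_subgroupOf.mp d.2)⟩ : T))
        fun a b => Subtype.ext rfl)
    have hπker : π.ker = (scalars η).subgroupOf Q₂ := by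
      ext d
      rw [MonoidHom.mem_ker, Subgroup.mem_subgroupOf, hsc₂ _ d.2]
      exact (QuotientGroup.eq_one_iff _).trans (hSmem _)
    have hπrange : π.range = μ.range := by
      ext u
      constructor
      · rintro ⟨d, rfl⟩
        exact (hT₁mem _).mp (Subgroup.mem_subgroupOf.mp (Subgroup.mem_subgroupOf.mp d.2))
      · intro hu
        obtain ⟨t, rfl⟩ := QuotientGroup.mk_surjective u
        have ht := (hT₁mem t).mpr hu
        exact ⟨⟨⟨⟨(t : G), hTL t.2⟩, hQ₁W (Subgroup.mem_subgroupOf.mpr ht)⟩,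
          Subgroup.mem_subgroupOf.mpr (Subgroup.mem_subgroupOf.mpr ht)⟩, rfl⟩
    rw [← hπker, Subgroup.index_ker, hπrange, hdim] at hsq
    obtain ⟨b, hb⟩ := ((hS.two.to_quotient S).to_subgroup μ.range).exists_card_eq
    rw [hb] at hsq
    obtain ⟨m, -, hm⟩ := (Nat.dvd_prime_pow Nat.prime_two).mp (Dvd.intro r hsq : r ∣ 2 ^ b)
    refine ⟨j, Φ x, m, hj1, ?_, ⟨x, rfl⟩, hxP, hyx, by omega, ?_⟩
    · by_contra h0
      obtain rfl : m = 0 := by omega
      rw [pow_zero] at hm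
      omega
    · rw [← hker, Subgroup.index_ker, hb, ← hsq, hm, ← pow_add]
      exact Nat.pow_le_pow_right two_pos (by omega)
  -- conclusion
  obtain ⟨y₁, hy₁, hb₁⟩ := hkey h₁ hh₁
  obtain ⟨y₂, hy₂, hb₂⟩ := hkey h₂ hh₂
  have hc := commute_of_bounded hS.odd hexp2 Φ.range hA (fun _ => hb₁) (fun _ => hb₂) ⟨y₁, rfl⟩ ⟨y₂, rfl⟩
  have h1 : Φ ⁅y₁, y₂⁆ ((⟨g, hg⟩ : T) : T ⧸ S) = ((⟨g, hg⟩ : T) : T ⧸ S) := by
    rw [map_commutatorElement, commutatorElement_eq_one_iff_commute.mpr hc]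
    rfl
  have h2 := QuotientGroup.eq.mp h1.symm
  have hcG : (((⁅y₁, y₂⁆ : St)) : G) = ⁅h₁ ^ p ^ (e - 1), h₂ ^ p ^ (e - 1)⁆ := by
    rw [← hy₁, ← hy₂]; rfl
  have h3 : IsScal ρ U (g⁻¹ * ((((⁅y₁, y₂⁆ : St)) : G) * g * (((⁅y₁, y₂⁆ : St)) : G)⁻¹)) := (hSmem _).mp h2
  rw [hcG] at h3
  set c := ⁅h₁ ^ p ^ (e - 1), h₂ ^ p ^ (e - 1)⁆
  have hgT : Normalizes g T := fun t ht => mul_mem (mul_mem hg ht) (inv_mem hg)
  have hz : g⁻¹ * (c * g * c⁻¹) ∈ T := mul_mem (inv_mem hg) (by rw [← hcG]; exact (cjT _ ⟨g, hg⟩).2)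
  have h4 := (hstab g (hTL hg) hgT _ hz h3).2.1
  convert h4 using 1
  rw [commutatorElement_def]; group

/-- The commutator of two top powers acts on `T` into its centre. -/
theorem top_powers (hS : Setting ρ p e T I) (hIp : IsPGroup p I) {h₁ h₂ : G} (hh₁ : h₁ ∈ I) (hh₂ : h₂ ∈ I)
    {g : G} (hg : g ∈ T) {t : G} (ht : t ∈ T) :
    Commute ⁅⁅h₁ ^ p ^ (e - 1), h₂ ^ p ^ (e - 1)⁆, g⁆ t := by
  set c := ⁅h₁ ^ p ^ (e - 1), h₂ ^ p ^ (e - 1)⁆ with hc
  have hcI : c ∈ I := mul_mem (mul_mem (mul_mem (pow_mem hh₁ _) (pow_mem hh₂ _)) (inv_mem (pow_mem hh₁ _)))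
    (inv_mem (pow_mem hh₂ _))
  have hg₁ : ⁅c, g⁆ ∈ T := mul_mem (hS.norm c hcI g hg) (inv_mem hg)
  set g₁ := ⁅c, g⁆ with hg₁def
  rw [← commutatorElement_eq_one_iff_commute]
  by_contra hd
  set d := ⁅g₁, t⁆ with hddef
  have hdd : ρ d * ρ d = 1 := by rw [← map_mul, hddef, hS.br_sq hg₁ ht, map_one]
  set X := LinearMap.range (ρ d - 1) with hX
  have hX0 : X ≠ ⊥ := fun h0 => hd (hS.inj (by
    rw [map_one, ← sub_eq_zero]; exact LinearMap.range_eq_bot.mp h0))
  have hXinv : ∀ s ∈ T, ∀ w ∈ X, ρ s w ∈ X := by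
    rintro s hs _ ⟨v, rfl⟩
    refine ⟨ρ s v, ?_⟩
    simp only [LinearMap.sub_apply, Module.End.one_apply, map_sub]
    rw [← Module.End.mul_apply, ← map_mul, (hS.central g₁ hg₁ t ht s hs).eq, map_mul, Module.End.mul_apply]
  obtain ⟨U, ⟨hU0, hUX, hUT⟩, hUmin⟩ := (wellFounded_lt (α := Submodule K V)).has_min
    {U : Submodule K V | U ≠ ⊥ ∧ U ≤ X ∧ ∀ s ∈ T, ∀ w ∈ U, ρ s w ∈ U} ⟨X, hX0, le_rfl, hXinv⟩
  haveI : Nontrivial U := Submodule.nontrivial_iff_ne_bot.mpr hU0
  have hirr : QIrred (subAct ρ T U hUT) ⊤ := by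
    intro W hW
    by_cases h0 : W = ⊥
    · exact Or.inl h0
    refine Or.inr (Submodule.map_injective_of_injective U.injective_subtype ?_)
    rw [Submodule.map_subtype_top]
    refine eq_of_le_of_not_lt (Submodule.map_subtype_le U W) (hUmin _ ⟨fun h1 => h0 ?_,
      (Submodule.map_subtype_le U W).trans hUX, fun s hs w hw => ?_⟩)
    · exact Submodule.map_injective_of_injective U.injective_subtype (h1.trans (Submodule.map_bot _).symm)
    · obtain ⟨w', hw', rfl⟩ := hw
      exact ⟨subAct ρ T U hUT ⟨s, hs⟩ w', hW _ trivial w' hw', rfl⟩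
  have hs := scalar_of_constituent hS hIp hUT hirr hh₁ hh₂ hg
  obtain ⟨w, hw⟩ := exists_ne (0 : U)
  obtain ⟨v, hv⟩ := hUX w.2
  have h1 : ρ d (w : V) = -(w : V) := by
    rw [← hv]
    simp only [LinearMap.sub_apply, Module.End.one_apply, map_sub, ← Module.End.mul_apply, hdd, neg_sub]
  have h2 : ρ d (w : V) = (w : V) := by
    rw [hddef, commutatorElement_def, map_mul, map_mul, map_mul, Module.End.mul_apply, Module.End.mul_apply,
      Module.End.mul_apply]
    have hu := hUT _ (inv_mem ht) w w.2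
    have hsi : ∀ w ∈ U, ρ g₁⁻¹ w = (scal ρ U g₁)⁻¹ • w := fun w hw => by
      have h3 := congrArg (ρ g₁⁻¹) (hs.spec w hw)
      rw [apply_inv_apply, map_smul] at h3
      rcases eq_or_ne (scal ρ U g₁) 0 with h0 | h0
      · rw [h0, zero_smul] at h3
        rw [h3, map_zero, smul_zero]
      · conv_rhs => rw [h3, smul_smul, inv_mul_cancel₀ h0, one_smul]
    rw [hsi _ hu, map_smul, apply_apply_inv, map_smul, hs.spec _ w.2, smul_smul]
    rcases eq_or_ne (scal ρ U g₁) 0 with h0 | h0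
    · exfalso
      have h3 := hs.spec _ w.2
      rw [h0, zero_smul] at h3
      have h4 := congrArg (ρ g₁⁻¹) h3
      rw [apply_inv_apply, map_zero] at h4
      exact hw (Subtype.ext h4)
    · rw [inv_mul_cancel₀ h0, one_smul]
  rw [h2, eq_neg_iff_add_eq_zero, ← two_smul K, smul_eq_zero] at h1
  refine h1.elim (fun h0 => ?_) (fun h0 => hw (Subtype.ext h0))
  have : ((2 : ℕ) : K) = 0 := by exact_mod_cast h0
  rw [CharP.cast_eq_zero_iff K p] at this
  exact hS.odd ((Nat.prime_dvd_prime_iff_eq hp.out Nat.prime_two).mp this)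

end Cfsg.Agent.PLocal.PLengthBound
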