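import Cfsg.Agent.Lib.PLocal.PLengthBound.Exception
import Cfsg.Agent.Lib.PLocal.TheoremB.Reduction
import Cfsg.Agent.Lib.Coprime.PGroup
import Cfsg.Agent.Solvable.Basics

/-!
Without full blocks the powers `h ^ p ^ (e - 1)` of a Sylow subgroup commute.
-/

set_option linter.all false
set_option autoImplicit false

namespace Cfsg.Agent.PLocal.PLengthBound

open Subgroup Cfsg TheoremB
open Module (End finrank)
open scoped commutatorElement

universe u v w

variable {G : Type u} [Group G] [Finite G] {p : ℕ} [hp : Fact p.Prime]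

/-- For each prime, a Sylow subgroup of a normal subgroup of order prime to `p`, normalized by a `p`-group. -/
theorem exists_normalized_sylow_group (K : Subgroup G) [K.Normal] (hK : ¬ p ∣ Nat.card K) (P : Subgroup G)
    (hP : IsPGroup p P) (q : ℕ) [Fact q.Prime] :
    ∃ Q : Subgroup G, Q ≤ K ∧ Nat.card Q = q ^ (Nat.card K).factorization q ∧ ∀ x ∈ P, Normalizes x Q := by
  obtain ⟨S⟩ : Nonempty (Sylow q K) := inferInstance
  set Q₀ : Subgroup G := (S : Subgroup K).map K.subtype with hQ₀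
  set N : Subgroup G := normalizer (Q₀ : Set G) with hN
  have hsup : N ⊔ K = ⊤ := Sylow.normalizer_sup_eq_top S
  have hidx : ¬ p ∣ Nat.card (G ⧸ N) := by
    let f : K ⧸ N.subgroupOf K → G ⧸ N :=
      Quotient.map' (fun k : K => (k : G)) fun a b h => by
        rw [QuotientGroup.leftRel_apply] at h ⊢
        exact h
    have hf : Function.Surjective f := by
      intro a
      obtain ⟨h, rfl⟩ := QuotientGroup.mk_surjective a
      obtain ⟨k, hk, m, hm, rfl⟩ := Subgroup.mem_sup_of_normal_left.mp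
        (show h ∈ K ⊔ N by rw [sup_comm, hsup]; exact mem_top h)
      refine ⟨QuotientGroup.mk (⟨k, hk⟩ : K), ?_⟩
      show ((k : G) : G ⧸ N) = ((k * m : G) : G ⧸ N)
      exact QuotientGroup.eq.mpr (by simpa using hm)
    have hinj : Function.Injective f := by
      intro a b hab
      obtain ⟨a, rfl⟩ := QuotientGroup.mk_surjective a
      obtain ⟨b, rfl⟩ := QuotientGroup.mk_surjective b
      have h1 : (QuotientGroup.mk (a : G) : G ⧸ N) = QuotientGroup.mk (b : G) := hab
      exact QuotientGroup.eq.mpr (Subgroup.mem_subgroupOf.mpr (by simpa using QuotientGroup.eq.mp h1))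
    intro hd
    rw [← Nat.card_congr (Equiv.ofBijective f ⟨hinj, hf⟩)] at hd
    exact hK (hd.trans (Subgroup.index_dvd_card _))
  obtain ⟨a, ha⟩ := hP.nonempty_fixed_point_of_prime_not_dvd_card (G ⧸ N) hidx
  obtain ⟨g, rfl⟩ := QuotientGroup.mk_surjective a
  refine ⟨Q₀.map (MulAut.conj g).toMonoidHom, ?_, ?_, ?_⟩
  · rintro _ ⟨_, ⟨s, -, rfl⟩, rfl⟩
    exact Normal.conj_mem inferInstance _ s.2 g
  · rw [Subgroup.card_map_of_injective (MulAut.conj g).injective, hQ₀,
      Subgroup.card_map_of_injective K.subtype_injective, Sylow.card_eq_multiplicity]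
  · intro x hx
    have hg : g⁻¹ * x * g ∈ N := by
      have h2 : ((x * g : G) : G ⧸ N) = (g : G ⧸ N) := ha ⟨x, hx⟩
      have h3 := QuotientGroup.eq.mp h2.symm
      rwa [← mul_assoc] at h3
    rintro _ ⟨w, hw, rfl⟩
    refine ⟨g⁻¹ * x * g * w * (g⁻¹ * x * g)⁻¹, (Subgroup.mem_normalizer_iff.mp hg w).mp hw, ?_⟩
    show g * (g⁻¹ * x * g * w * (g⁻¹ * x * g)⁻¹) * g⁻¹ = x * (g * w * g⁻¹) * x⁻¹
    group

variable {K : Type w} [Field K] [CharP K p] [IsAlgClosed K] {V : Type v} [AddCommGroup V] [Module K V]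
  [FiniteDimensional K V] [Nontrivial V] {ρ : G →* End K V} {e : ℕ}

/-- Without full blocks the top power centralizes every normalized abelian, or odd-order, `q`-subgroup. -/
theorem top_fixes (hρ : Function.Injective ρ) (hp2 : p ≠ 2) {h : G} (he : 1 ≤ e) (hpow : h ^ p ^ e = 1)
    (hblk : (ρ h - 1) ^ (p ^ e - 1) = 0) {q : ℕ} [hq : Fact q.Prime] (hqp : p ≠ q) {Q : Subgroup G}
    (hQ : IsPGroup q Q) (hn : Normalizes h Q)
    (hcase : ¬ (q = 2 ∧ ∃ k : ℕ, p = 2 ^ k + 1) ∨ ∀ a ∈ Q, ∀ b ∈ Q, Commute a b) :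
    ∀ g ∈ Q, Commute (h ^ p ^ (e - 1)) g := by
  intro g hg
  by_contra hc
  have hmove : Moves ρ Q (h ^ p ^ (e - 1)) := ⟨g, hg, fun h1 => hc (hρ (by rw [map_mul, map_mul]; exact h1.eq))⟩
  rcases bound hp hq hqp (Nat.card Q) (finrank K V) G V ρ Q h e le_rfl le_rfl hQ he hpow hn hmove _ hblk with
    h1 | ⟨n₀, m, hn₀, -, hm, hqm, hna, -⟩
  · have := Nat.pow_pos (n := e) hp.out.pos
    omega
  rcases hcase with hcase | hcase
  · -- `p ^ n₀ - 1` is even
    refine hcase ⟨?_, ?_⟩
    · by_contra hq2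
      have hodd : Odd (q ^ m) := (hq.out.odd_of_ne_two hq2).pow
      rw [← hqm, Nat.odd_sub (Nat.one_le_pow _ _ hp.out.pos)] at hodd
      have hpodd : Odd (p ^ n₀) := (hp.out.odd_of_ne_two hp2).pow
      exact absurd (hodd.mp hpodd) (by decide)
    · have hq2 : q = 2 := by
        by_contra hq2
        have hodd : Odd (q ^ m) := (hq.out.odd_of_ne_two hq2).pow
        rw [← hqm, Nat.odd_sub (Nat.one_le_pow _ _ hp.out.pos)] at hodd
        have hpodd : Odd (p ^ n₀) := (hp.out.odd_of_ne_two hp2).pow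
        exact absurd (hodd.mp hpodd) (by decide)
      have hdvd : p - 1 ∣ 2 ^ m := by
        rw [← hq2, ← hqm]
        simpa using Nat.sub_dvd_pow_sub_pow p 1 n₀
      obtain ⟨k, -, hk⟩ := (Nat.dvd_prime_pow Nat.prime_two).mp hdvd
      exact ⟨k, by have := hp.out.two_le; omega⟩
  · obtain ⟨a, ha, b, hb, hab⟩ := hna
    exact hab ((hcase a ha b hb).map ρ)

/-- The top powers commute. -/
theorem commute_top_powers (hρ : Function.Injective ρ) (hp2 : p ≠ 2) (he : 1 ≤ e) (hsol : IsPSolvable p G)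
    (hO : pCore p G = ⊥) (P : Sylow p G) (hpow : ∀ h ∈ (P : Subgroup G), h ^ p ^ e = 1)
    (hblk : ∀ h ∈ (P : Subgroup G), (ρ h - 1) ^ (p ^ e - 1) = 0) {h₁ h₂ : G} (hh₁ : h₁ ∈ (P : Subgroup G))
    (hh₂ : h₂ ∈ (P : Subgroup G)) : Commute (h₁ ^ p ^ (e - 1)) (h₂ ^ p ^ (e - 1)) := by
  rw [← commutatorElement_eq_one_iff_commute]
  set c := ⁅h₁ ^ p ^ (e - 1), h₂ ^ p ^ (e - 1)⁆ with hc
  have hcP : c ∈ (P : Subgroup G) := mul_mem (mul_mem (mul_mem (pow_mem hh₁ _) (pow_mem hh₂ _))
    (inv_mem (pow_mem hh₁ _))) (inv_mem (pow_mem hh₂ _))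
  set K₀ := pPrimeCore p G with hK₀
  haveI : K₀.Normal := Cores.pPrimeCore_normal p
  have hcop : (Nat.card K₀).Coprime p := Cores.coprime_card_pPrimeCore
  -- top powers centralize small subgroups
  have hfix : ∀ (q : ℕ) [Fact q.Prime], p ≠ q → ∀ Q : Subgroup G, IsPGroup q Q →
      (∀ x ∈ (P : Subgroup G), Normalizes x Q) → (q ≠ 2 ∨ ∀ a ∈ Q, ∀ b ∈ Q, Commute a b) → ∀ g ∈ Q, Commute c g := by
    intro q _ hqp Q hQ hn hcase g hg
    have hy : ∀ h ∈ (P : Subgroup G), ∀ g ∈ Q, Commute (h ^ p ^ (e - 1)) g := fun h hh =>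
      top_fixes hρ hp2 he (hpow h hh) (hblk h hh) hqp hQ (hn h hh) (hcase.imp (fun h2 hc => h2 hc.1) id)
    have h1 := hy h₁ hh₁ g hg
    have h2 := hy h₂ hh₂ g hg
    rw [hc, commutatorElement_def]
    exact ((h1.mul_left h2).mul_left h1.inv_left).mul_left h2.inv_left
  have htwo : ∀ N, ∀ T : Subgroup G, Nat.card T ≤ N → IsPGroup 2 T → (∀ x ∈ (P : Subgroup G), Normalizes x T) →
      ∀ g ∈ T, Commute c g := by
    haveI : Fact (Nat.Prime 2) := ⟨Nat.prime_two⟩
    intro N
    induction N using Nat.strong_induction_on with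
    | _ N IH =>
    intro T hN hT hn g₀ hg₀
    by_contra hmove
    have hsmall : ∀ R : Subgroup G, R ≤ T → R ≠ T → (∀ x ∈ (P : Subgroup G), Normalizes x R) →
        ∀ d ∈ R, ∀ a ∈ (P : Subgroup G), Commute (a * c * a⁻¹) d := by
      intro R hRT hne hRn d hd a ha
      have hlt : Nat.card R < Nat.card T :=
        lt_of_le_of_ne (card_le_of_le hRT) fun h1 => hne (eq_of_le_of_card_ge hRT h1.ge)
      have h1 := IH (Nat.card R) (hlt.trans_le hN) R le_rfl (hT.to_le hRT) hRn (a⁻¹ * d * a)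
        (by simpa using hRn a⁻¹ (inv_mem ha) d hd)
      have h2 := Commute.map h1 (MulAut.conj a).toMonoidHom
      simpa [mul_assoc] using h2
    set R := closure {t | ∃ g ∈ T, ∃ a ∈ (P : Subgroup G), t = g⁻¹ * (a * c * a⁻¹ * g * (a * c * a⁻¹)⁻¹)} with hRdef
    have hRT : R ≤ T := by
      rw [hRdef, closure_le]
      rintro _ ⟨g, hg, a, ha, rfl⟩
      exact mul_mem (inv_mem hg) (hn _ (mul_mem (mul_mem ha hcP) (inv_mem ha)) g hg)
    have hRn : ∀ x ∈ (P : Subgroup G), Normalizes x R := by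
      intro x hx g hg
      induction hg using Subgroup.closure_induction with
      | mem g hg =>
        obtain ⟨g, hg, a, ha, rfl⟩ := hg
        refine subset_closure ⟨x * g * x⁻¹, hn x hx g hg, x * a, mul_mem hx ha, ?_⟩
        group
      | one => simpa using one_mem R
      | mul a b _ _ ha hb => rw [show x * (a * b) * x⁻¹ = x * a * x⁻¹ * (x * b * x⁻¹) by group]; exact mul_mem ha hb
      | inv a _ ha => rw [show x * a⁻¹ * x⁻¹ = (x * a * x⁻¹)⁻¹ by group]; exact inv_mem ha
    have hRT' : R = T := by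
      by_contra hne
      refine hmove ?_
      have htR : g₀⁻¹ * (c * g₀ * c⁻¹) ∈ R :=
        subset_closure ⟨g₀, hg₀, 1, one_mem _, by simp⟩
      set t := g₀⁻¹ * (c * g₀ * c⁻¹) with ht
      have hct : Commute c t := by simpa using hsmall R hRT hne hRn t htR 1 (one_mem _)
      have hiter : ∀ i : ℕ, c ^ i * g₀ * (c ^ i)⁻¹ = g₀ * t ^ i := by
        intro i
        induction i with
        | zero => simp
        | succ i ih =>
          rw [show c ^ (i + 1) * g₀ * (c ^ (i + 1))⁻¹ = c * (c ^ i * g₀ * (c ^ i)⁻¹) * c⁻¹ by rw [pow_succ']; group,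
            ih, show c * (g₀ * t ^ i) * c⁻¹ = (c * g₀ * c⁻¹) * (c * t ^ i * c⁻¹) by group,
            (hct.pow_right i).eq, mul_inv_cancel_right, show c * g₀ * c⁻¹ = g₀ * t by rw [ht]; group, mul_assoc,
            ← pow_succ']
      have hone : t ^ p ^ e = 1 := by
        have := hiter (p ^ e)
        rw [hpow c hcP] at this
        simpa using this.symm
      obtain ⟨k, hk⟩ := hT ⟨t, hRT htR⟩
      have hk' : t ^ 2 ^ k = 1 := by simpa using congrArg Subtype.val hk
      have hg1 : t = 1 := by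
        have h := pow_gcd_eq_one.mpr ⟨hone, hk'⟩
        rwa [show Nat.gcd (p ^ e) (2 ^ k) = 1 from
          Nat.Coprime.pow _ _ ((Nat.coprime_primes hp.out Nat.prime_two).mpr hp2), pow_one] at h
      have : c * g₀ * c⁻¹ = g₀ := by rw [show c * g₀ * c⁻¹ = g₀ * t by rw [ht]; group, hg1, mul_one]
      exact mul_inv_eq_iff_eq_mul.mp this
    have hcentral : ∀ R₁ : Subgroup G, R₁ ≤ T → R₁ ≠ T → (∀ x ∈ (P : Subgroup G), Normalizes x R₁) →
        (∀ g ∈ T, ∀ d ∈ R₁, g * d * g⁻¹ ∈ R₁) → ∀ k ∈ T, ∀ d ∈ R₁, Commute d k := by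
      intro R₁ h1 hne h3 hnorm k hk
      rw [← hRT'] at hk
      induction hk using Subgroup.closure_induction with
      | mem k hk =>
        obtain ⟨g, hg, a, ha, rfl⟩ := hk
        intro d hd
        have e1 := hsmall R₁ h1 hne h3 _ (hnorm g hg d hd) a ha
        have e2 := hsmall R₁ h1 hne h3 d hd a ha
        set z := a * c * a⁻¹
        show d * (g⁻¹ * (z * g * z⁻¹)) = g⁻¹ * (z * g * z⁻¹) * d
        calc d * (g⁻¹ * (z * g * z⁻¹)) = g⁻¹ * (g * d * g⁻¹) * z * g * z⁻¹ := by group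
          _ = g⁻¹ * (z * (g * d * g⁻¹)) * g * z⁻¹ := by rw [e1.eq]; group
          _ = g⁻¹ * z * g * (d * z⁻¹) := by group
          _ = g⁻¹ * z * g * (z⁻¹ * d) := by rw [(e2.inv_left).eq]
          _ = _ := by group
      | one => intro d _; exact Commute.one_right d
      | mul a b _ _ ha hb => intro d hd; exact (ha d hd).mul_right (hb d hd)
      | inv a _ ha => intro d hd; exact (ha d hd).inv_right
    haveI := hT.isNilpotent
    haveI : Nontrivial T := by
      refine (nontrivial_iff_ne_bot T).mpr ?_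
      rintro rfl
      exact hmove (by rw [mem_bot.mp hg₀]; exact Commute.one_right c)
    have hFne : (frattini T).map T.subtype ≠ T := by
      intro h1
      have h2 : frattini T = ⊤ := by
        refine map_injective T.subtype_injective ?_
        rw [h1, ← MonoidHom.range_eq_map, range_subtype]
      obtain ⟨M, hM⟩ : ∃ M : Subgroup T, IsCoatom M :=
        ((eq_top_or_exists_le_coatom (⊥ : Subgroup T)).resolve_left bot_ne_top).imp fun _ h => h.1
      exact hM.1 (top_le_iff.mp (h2 ▸ frattini_le_coatom hM))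
    have hFn : ∀ x : G, Normalizes x T → Normalizes x ((frattini T).map T.subtype) := by
      intro x hx
      rintro _ ⟨d, hd, rfl⟩
      let cj : T →* T := MonoidHom.mk' (fun d => ⟨x * d * x⁻¹, hx d d.2⟩) fun a b => Subtype.ext (by
        show x * ((a : G) * b) * x⁻¹ = x * a * x⁻¹ * (x * b * x⁻¹)
        group)
      let cje : T ≃* T := MulEquiv.ofBijective cj (Finite.injective_iff_bijective.mp fun a b h => by
        simpa [cj] using congrArg Subtype.val h)
      have h1 := (characteristic_iff_map_eq.mp (inferInstance : (frattini T).Characteristic) cje).le ⟨d, hd, rfl⟩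
      exact ⟨cje d, h1, rfl⟩
    have hFc := hcentral _ (map_subtype_le _) hFne (fun x hx => hFn x (hn x hx))
      (fun g hg d hd => hFn g (fun t ht => mul_mem (mul_mem hg ht) (inv_mem hg)) d hd)
    have hS : Setting ρ p e T (P : Subgroup G) :=
      { odd := hp2, one_le := he, inj := hρ, two := hT, norm := hn, pow := hpow, blk := hblk
        central := fun a ha b hb d hd => hFc d hd _ ⟨⁅(⟨a, ha⟩ : T), ⟨b, hb⟩⁆,
          Coprime.commutator_le_frattini T (commutator_mem_commutator (mem_top _) (mem_top _)), rfl⟩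
        sq := fun a ha b hb => hFc b hb _ ⟨(⟨a, ha⟩ : T) ^ 2, Solvable.Basics.pow_mem_frattini hT _, rfl⟩ }
    -- the generators lie in the centre
    have hcgen : ∀ g ∈ T, ∀ t ∈ T, Commute (g⁻¹ * (c * g * c⁻¹)) t := by
      intro g hg t ht
      have h1 := top_powers hS P.2 hh₁ hh₂ (inv_mem hg) ht
      rw [← hc] at h1
      have hdT : ⁅c, g⁻¹⁆ ∈ T := mul_mem (hn c hcP _ (inv_mem hg)) (by rw [inv_inv]; exact hg)
      have h2 : ∀ s ∈ T, Commute ⁅c, g⁻¹⁆ s := fun s hs => by
        rw [hc]; exact top_powers hS P.2 hh₁ hh₂ (inv_mem hg) hs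
      have h3 : g⁻¹ * (c * g * c⁻¹) = (⁅c, g⁻¹⁆)⁻¹ := by simp only [commutatorElement_def]; group
      rw [h3]
      exact (h2 t ht).inv_left
    set Zt := T ⊓ centralizer (T : Set G) with hZt
    have hRZ : R ≤ Zt := by
      rw [hRdef, closure_le]
      rintro _ ⟨g, hg, a, ha, rfl⟩
      refine ⟨hRT (subset_closure ⟨g, hg, a, ha, rfl⟩), mem_centralizer_iff.mpr fun s hs => ?_⟩
      have h1 := hcgen (a⁻¹ * g * a) (by simpa using hn a⁻¹ (inv_mem ha) g hg) (a⁻¹ * s * a)
        (by simpa using hn a⁻¹ (inv_mem ha) s hs)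
      have h2 := Commute.map h1 (MulAut.conj a).toMonoidHom
      simp only [MulEquiv.coe_toMonoidHom, MulAut.conj_apply] at h2
      rw [show a * ((a⁻¹ * g * a)⁻¹ * (c * (a⁻¹ * g * a) * c⁻¹)) * a⁻¹ =
          g⁻¹ * (a * c * a⁻¹ * g * (a * c * a⁻¹)⁻¹) by group,
        show a * (a⁻¹ * s * a) * a⁻¹ = s by group] at h2
      exact h2.eq.symm
    rw [hRT'] at hRZ
    exact hmove (hfix 2 hp2 T hT hn
      (Or.inr fun a ha b hb => (mem_centralizer_iff.mp (hRZ hb).2 a ha)) g₀ hg₀)
  -- `c` centralizes the `p'`-core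
  set C := K₀ ⊓ centralizer ({c} : Set G) with hC
  have hCeq : C = K₀ := by
    refine Subgroup.eq_of_le_of_card_ge inf_le_left (Nat.le_of_dvd Nat.card_pos ?_)
    rw [← Nat.factorization_le_iff_dvd Nat.card_pos.ne' Nat.card_pos.ne']
    intro q
    by_cases hq : q.Prime
    · refine (hq.pow_dvd_iff_le_factorization Nat.card_pos.ne').mp ?_
      rcases eq_or_ne q p with rfl | hqp
      · rw [Nat.factorization_eq_zero_of_not_dvd fun hd => by
          have := Nat.dvd_gcd hd (dvd_refl q)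
          rw [hcop] at this
          exact hp.out.not_dvd_one this, pow_zero]
        exact one_dvd _
      haveI := Fact.mk hq
      obtain ⟨Q, hQK, hQc, hQn⟩ := exists_normalized_sylow_group K₀
        (fun hd => hp.out.not_dvd_one (hcop ▸ Nat.dvd_gcd hd dvd_rfl)) (P : Subgroup G) P.2 q
      rw [← hQc]
      refine Subgroup.card_dvd_of_le fun g hg => ⟨hQK hg, Subgroup.mem_centralizer_singleton_iff.mpr ?_⟩
      rcases eq_or_ne q 2 with rfl | hq2
      · exact (htwo (Nat.card Q) Q le_rfl (IsPGroup.of_card hQc) hQn g hg).symm.eq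
      · exact (hfix q hqp.symm Q (IsPGroup.of_card hQc) hQn (Or.inl hq2) g hg).symm.eq
    · simp [Nat.factorization_eq_zero_of_not_prime _ hq]
  have hcC : c ∈ centralizer (K₀ : Set G) := Subgroup.mem_centralizer_iff.mpr fun g hg => by
    have : g ∈ C := hCeq.symm ▸ hg
    exact Subgroup.mem_centralizer_singleton_iff.mp this.2
  have hcK := Offender.centralizer_pPrimeCore_le hO hsol hcC
  have h1 : c ∈ (P : Subgroup G) ⊓ K₀ := ⟨hcP, hcK⟩
  rwa [Cores.inf_eq_bot_of_isPGroup_of_coprime P.2 hcop, mem_bot] at h1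

end Cfsg.Agent.PLocal.PLengthBound
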